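import Mathlib

/-!
# Orbits of a normalised subgroup in a cover by fixed point sets (helper202)

`x i` : commuting permutations of `D` of prime orders `r i`, normalising a transitive finite group `U`.

* `exists_moved` : `U` abelian, at most one of the `r i` divides `|U|`; if no `x i` is trivial, some point is moved by
  all the `x i`;
* `exists_moved_nil` : the same for `U` nilpotent, no `r i` divides `|U|`;
* `cover` : `G` acts on `Ω`, every point is fixed by some `x i`, `U ≤ G` is normalised by the `x i`; then for every `ω`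
  there is an `i` such that `x i` fixes all the points of the orbit `U ω`.
-/

set_option autoImplicit false
set_option linter.unusedSectionVars false

namespace Cfsg.Agent.H202.RC

/-- `x i` : commuting permutations normalising `U` -/
structure Nrm {U D ι : Type*} [Group U] [MulAction U D] (x : ι → Equiv.Perm D) (α : ι → MulAut U) (r : ι → ℕ) :
    Prop where
  prime : ∀ i, (r i).Prime
  comm : ∀ i j d, x i (x j d) = x j (x i d)
  acomm : ∀ i j u, α i (α j u) = α j (α i u)
  act : ∀ i u d, x i (u • d) = α i u • x i d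
  pow : ∀ i, x i ^ r i = 1
  apow : ∀ i, α i ^ r i = 1

section abelian

variable {U D ι : Type*} [CommGroup U] [Finite U] [MulAction U D] {x : ι → Equiv.Perm D} {α : ι → MulAut U} {r : ι → ℕ}

/-- the norm -/
def nrm (a : MulAut U) (r : ℕ) : U →* U where
  toFun v := ∏ k ∈ Finset.range r, (a ^ k) v
  map_one' := by simp
  map_mul' v w := by simp [Finset.prod_mul_distrib]

theorem nrm_apply (a : MulAut U) (r : ℕ) (v : U) : nrm a r v = ∏ k ∈ Finset.range r, (a ^ k) v := rfl

theorem nrm_comm {a b : MulAut U} (h : ∀ u, a (b u) = b (a u)) (r : ℕ) (v : U) : nrm a r (b v) = b (nrm a r v) := by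
  have hab : Commute a b := MulEquiv.ext h
  rw [nrm_apply, nrm_apply, map_prod]
  refine Finset.prod_congr rfl fun k _ => ?_
  have h1 := (hab.pow_left k).eq
  have h2 := congrArg (fun f : MulAut U => f v) h1
  simpa using h2

theorem nrm_sub {a : MulAut U} {r : ℕ} (ha : a ^ r = 1) (u : U) : nrm a r (u⁻¹ * a u) = 1 := by
  rw [nrm_apply]
  have h1 : ∀ n : ℕ, ∏ k ∈ Finset.range n, (a ^ k) (u⁻¹ * a u) = u⁻¹ * (a ^ n) u := by
    intro n
    induction n with
    | zero => simp
    | succ n ih =>
      rw [Finset.prod_range_succ, ih, map_mul, map_inv, pow_succ, MulAut.mul_apply]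
      group
  rw [h1, ha]
  simp

/-- the coprime step -/
theorem key {a : MulAut U} {r : ℕ} (hr : r.Coprime (Nat.card U)) {y : Equiv.Perm D}
    (hact : ∀ (u : U) (d : D), y (u • d) = a u • y d) {d : D} (hd : y d = d) {v : U} (hv : nrm a r v = 1)
    (h : y (v • d) = v • d) : v • d = d := by
  have h1 : ∀ k : ℕ, (a ^ k) v • d = v • d := by
    intro k
    induction k with
    | zero => simp
    | succ k ih =>
      have h2 := hact ((a ^ k) v) d
      rw [ih, h, hd] at h2
      rw [pow_succ', MulAut.mul_apply, ← h2]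
  have h2 : ∀ n : ℕ, (∏ k ∈ Finset.range n, (a ^ k) v) • d = v ^ n • d := by
    intro n
    induction n with
    | zero => simp
    | succ n ih => rw [Finset.prod_range_succ, mul_comm, mul_smul, ih, pow_succ', mul_smul, ← mul_smul, ← mul_smul,
        mul_comm ((a ^ n) v), mul_smul, h1, ← mul_smul, mul_comm (v ^ n) v]
  have h3 : v ^ r • d = d := by
    rw [← h2, ← nrm_apply, hv, one_smul]
  have h4 : v ^ r ∈ MulAction.stabilizer U d := h3
  have h5 : v ^ Nat.card U ∈ MulAction.stabilizer U d := by
    rw [pow_card_eq_one']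
    exact one_mem _
  have h6 : v ∈ MulAction.stabilizer U d := by
    have h7 := Nat.gcd_eq_gcd_ab r (Nat.card U)
    rw [hr.gcd_eq_one] at h7
    have h8 : v = (v ^ r) ^ (Nat.gcdA r (Nat.card U)) * (v ^ Nat.card U) ^ (Nat.gcdB r (Nat.card U)) := by
      rw [← zpow_natCast, ← zpow_natCast, ← zpow_mul, ← zpow_mul, ← zpow_add, ← h7]
      simp
    rw [h8]
    exact mul_mem (zpow_mem h4 _) (zpow_mem h5 _)
  exact h6

/-- **The abelian case.** -/
theorem exists_moved [Finite ι] [Nonempty D] (h : Nrm x α r) (htr : ∀ d d' : D, ∃ u : U, u • d = d')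
    (huniq : ∀ i j, ¬ (r i).Coprime (Nat.card U) → ¬ (r j).Coprime (Nat.card U) → i = j)
    (hne : ∀ i, ∃ d, x i d ≠ d) : ∃ d, ∀ i, x i d ≠ d := by
  classical
  -- the starting point
  obtain ⟨d0, hd0⟩ : ∃ d0 : D, ∀ i, ¬ (r i).Coprime (Nat.card U) → x i d0 ≠ d0 := by
    by_cases hex : ∃ i, ¬ (r i).Coprime (Nat.card U)
    · obtain ⟨i, hi⟩ := hex
      obtain ⟨d, hd⟩ := hne i
      exact ⟨d, fun j hj => by rw [huniq j i hj hi]; exact hd⟩
    · push Not at hex
      exact ⟨Classical.arbitrary D, fun i hi => absurd (hex i) hi⟩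
  set A : Set ℕ := {n : ℕ | ∃ d : D, (∀ i, ¬ (r i).Coprime (Nat.card U) → x i d ≠ d) ∧
      n = Set.ncard {i | x i d ≠ d}} with hA
  have hbd : BddAbove A := by
    refine ⟨Nat.card ι, ?_⟩
    rintro n ⟨d, -, rfl⟩
    exact Set.ncard_le_card _
  have hAn : A.Nonempty := ⟨_, d0, hd0, rfl⟩
  have hmem := Nat.sSup_mem hAn hbd
  obtain ⟨d, hd, hn⟩ := hmem
  refine ⟨d, ?_⟩
  by_contra hcon
  push Not at hcon
  obtain ⟨i, hi⟩ := hcon
  have hri : (r i).Coprime (Nat.card U) := by
    by_contra h1
    exact hd i h1 hi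
  obtain ⟨d1, hd1⟩ := hne i
  obtain ⟨u, rfl⟩ := htr d d1
  set w : U := u⁻¹ * α i u with hw
  have hwn : nrm (α i) (r i) w = 1 := nrm_sub (h.apow i) u
  have hwd : w • d ≠ d := by
    intro h1
    apply hd1
    rw [h.act, hi]
    have h2 : α i u = u * w := by rw [hw]; group
    rw [h2, mul_smul, h1]
  have hmove : ∀ j, (x j d ≠ d ∨ j = i) → x j (w • d) ≠ w • d := by
    intro j hj h1
    by_cases hji : j = i
    · rw [hji] at h1
      exact hwd (key hri (h.act i) hi hwn h1)
    · have hj' := hj.resolve_right hji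
      apply hj'
      rw [h.act] at h1
      have h2 : x j d = ((α j w)⁻¹ * w) • d := by rw [mul_smul, ← h1, inv_smul_smul]
      have h3 : nrm (α i) (r i) ((α j w)⁻¹ * w) = 1 := by
        rw [map_mul, map_inv, nrm_comm (h.acomm i j), hwn, map_one, inv_one, one_mul]
      have h4 : x i (((α j w)⁻¹ * w) • d) = ((α j w)⁻¹ * w) • d := by
        rw [← h2, h.comm i j, hi]
      rw [h2]
      exact key hri (h.act i) hi h3 h4
  have hlt : Set.ncard {j | x j d ≠ d} < Set.ncard {j | x j (w • d) ≠ w • d} := by
    refine Set.ncard_lt_ncard (ssubset_iff_subset_not_subset.2 ⟨fun j hj => hmove j (Or.inl hj), fun hsub => ?_⟩)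
      (Set.toFinite _)
    exact hsub (show i ∈ {j | x j (w • d) ≠ w • d} from hmove i (Or.inr rfl)) hi
  have hle : Set.ncard {j | x j (w • d) ≠ w • d} ≤ Set.ncard {j | x j d ≠ d} := by
    rw [← hn]
    refine le_csSup hbd ⟨w • d, fun j hj => ?_, rfl⟩
    exact hmove j (Or.inl (hd j hj))
  omega

end abelian

section nil

open MulAction

universe u v w

variable {U : Type u} [Group U] {D : Type v} [MulAction U D]

theorem mem_center_map (a : MulAut U) {z : U} (hz : z ∈ Subgroup.center U) : a z ∈ Subgroup.center U := by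
  rw [Subgroup.mem_center_iff] at hz ⊢
  intro g
  have h := congrArg a (hz (a.symm g))
  simpa using h

/-- the orbits of the centre -/
abbrev Dq (U : Type u) [Group U] (D : Type v) [MulAction U D] : Type v :=
  orbitRel.Quotient (Subgroup.center U) D

/-- the class of a point -/
abbrev cls (d : D) : Dq U D := Quotient.mk (orbitRel (Subgroup.center U) D) d

theorem cls_eq {d d' : D} : (cls d : Dq U D) = cls d' ↔ ∃ z ∈ Subgroup.center U, z • d' = d := by
  rw [Quotient.eq (r := orbitRel (Subgroup.center U) D), orbitRel_apply]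
  constructor
  · rintro ⟨z, hz⟩
    exact ⟨z, z.2, hz⟩
  · rintro ⟨z, hz, h⟩
    exact ⟨⟨z, hz⟩, h⟩

theorem cls_surj (d : Dq U D) : ∃ d' : D, cls d' = d := Quotient.exists_rep d

/-- the action of `U` on the orbits of the centre -/
def actU : U →* Equiv.Perm (Dq U D) where
  toFun u :=
    { toFun := Quotient.map (u • ·) (by
        intro a b h
        obtain ⟨z, hz, h⟩ := cls_eq.1 (Quotient.sound (s := orbitRel (Subgroup.center U) D) h)
        refine Quotient.exact (s := orbitRel (Subgroup.center U) D) (cls_eq.2 ⟨z, hz, ?_⟩)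
        rw [← h, ← mul_smul, ← mul_smul, (Subgroup.mem_center_iff.1 hz u)])
      invFun := Quotient.map (u⁻¹ • ·) (by
        intro a b h
        obtain ⟨z, hz, h⟩ := cls_eq.1 (Quotient.sound (s := orbitRel (Subgroup.center U) D) h)
        refine Quotient.exact (s := orbitRel (Subgroup.center U) D) (cls_eq.2 ⟨z, hz, ?_⟩)
        rw [← h, ← mul_smul, ← mul_smul, (Subgroup.mem_center_iff.1 hz u⁻¹)])
      left_inv := by
        intro d
        obtain ⟨d, rfl⟩ := cls_surj d
        change cls (u⁻¹ • u • d) = cls d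
        rw [inv_smul_smul]
      right_inv := by
        intro d
        obtain ⟨d, rfl⟩ := cls_surj d
        change cls (u • u⁻¹ • d) = cls d
        rw [smul_inv_smul] }
  map_one' := by
    ext d
    obtain ⟨d, rfl⟩ := cls_surj d
    change cls ((1 : U) • d) = cls d
    rw [one_smul]
  map_mul' a b := by
    ext d
    obtain ⟨d, rfl⟩ := cls_surj d
    change cls ((a * b) • d) = cls (a • b • d)
    rw [mul_smul]

theorem actU_apply (u : U) (d : D) : actU u (cls d : Dq U D) = cls (u • d) := rfl

/-- the action of `U / Z(U)` -/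
def actQ : U ⧸ Subgroup.center U →* Equiv.Perm (Dq U D) :=
  QuotientGroup.lift (Subgroup.center U) actU (by
    intro z hz
    ext d
    obtain ⟨d, rfl⟩ := cls_surj d
    rw [actU_apply]
    exact cls_eq.2 ⟨z, hz, rfl⟩)

theorem actQ_apply (u : U) (d : D) : actQ (QuotientGroup.mk u : U ⧸ Subgroup.center U) (cls d : Dq U D) = cls (u • d) :=
  rfl

/-- the induced permutation of the orbits of the centre -/
def permQ (x : Equiv.Perm D) (a : MulAut U) (h : ∀ (u : U) (d : D), x (u • d) = a u • x d) : Equiv.Perm (Dq U D) where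
  toFun := Quotient.map x (by
    intro d d' hd
    obtain ⟨z, hz, hd⟩ := cls_eq.1 (Quotient.sound (s := orbitRel (Subgroup.center U) D) hd)
    exact Quotient.exact (s := orbitRel (Subgroup.center U) D)
      (cls_eq.2 ⟨a z, mem_center_map a hz, by rw [← hd, h]⟩))
  invFun := Quotient.map x.symm (by
    intro d d' hd
    obtain ⟨z, hz, hd⟩ := cls_eq.1 (Quotient.sound (s := orbitRel (Subgroup.center U) D) hd)
    refine Quotient.exact (s := orbitRel (Subgroup.center U) D) (cls_eq.2 ⟨a⁻¹ z, mem_center_map a⁻¹ hz, ?_⟩)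
    apply x.injective
    rw [h, ← hd]
    simp)
  left_inv := by
    intro d
    obtain ⟨d, rfl⟩ := cls_surj d
    change cls (x.symm (x d)) = cls d
    rw [x.symm_apply_apply]
  right_inv := by
    intro d
    obtain ⟨d, rfl⟩ := cls_surj d
    change cls (x (x.symm d)) = cls d
    rw [x.apply_symm_apply]

theorem permQ_apply (x : Equiv.Perm D) (a : MulAut U) (h : ∀ (u : U) (d : D), x (u • d) = a u • x d) (d : D) :
    permQ x a h (cls d) = cls (x d) := rfl

/-- the induced automorphism -/
def autQ (a : MulAut U) : MulAut (U ⧸ Subgroup.center U) :=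
  QuotientGroup.congr (Subgroup.center U) (Subgroup.center U) a (by
    ext z
    constructor
    · rintro ⟨y, hy, rfl⟩
      exact mem_center_map a hy
    · intro hz
      exact ⟨a⁻¹ z, mem_center_map a⁻¹ hz, by simp⟩)

theorem autQ_apply (a : MulAut U) (u : U) : autQ a (QuotientGroup.mk u) = QuotientGroup.mk (a u) := rfl

variable {ι : Type w} {x : ι → Equiv.Perm D} {α : ι → MulAut U} {r : ι → ℕ}

theorem nrm_quot (h : Nrm x α r) :
    @Nrm (U ⧸ Subgroup.center U) (Dq U D) ι _ (MulAction.compHom (Dq U D) (actQ (U := U) (D := D)))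
      (fun i => permQ (x i) (α i) (h.act i)) (fun i => autQ (α i)) r := by
  let _ : MulAction (U ⧸ Subgroup.center U) (Dq U D) := MulAction.compHom (Dq U D) (actQ (U := U) (D := D))
  refine ⟨h.prime, ?_, ?_, ?_, ?_, ?_⟩
  · intro i j d
    obtain ⟨d, rfl⟩ := cls_surj d
    rw [permQ_apply, permQ_apply, permQ_apply, permQ_apply, h.comm]
  · intro i j u
    obtain ⟨u, rfl⟩ := QuotientGroup.mk_surjective u
    rw [autQ_apply, autQ_apply, autQ_apply, autQ_apply, h.acomm]
  · intro i u d
    obtain ⟨u, rfl⟩ := QuotientGroup.mk_surjective u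
    obtain ⟨d, rfl⟩ := cls_surj d
    change cls (x i (u • d)) = cls (α i u • x i d)
    rw [h.act]
  · intro i
    have h1 : ∀ (n : ℕ) (d : D), (permQ (x i) (α i) (h.act i) ^ n) (cls d) = cls ((x i ^ n) d) := by
      intro n
      induction n with
      | zero => intro d; rfl
      | succ n ih => intro d; rw [pow_succ, Equiv.Perm.mul_apply, permQ_apply, ih, pow_succ, Equiv.Perm.mul_apply]
    ext d
    obtain ⟨d, rfl⟩ := cls_surj d
    rw [h1, h.pow]
    rfl
  · intro i
    have h1 : ∀ (n : ℕ) (u : U), (autQ (α i) ^ n) (QuotientGroup.mk u) = QuotientGroup.mk ((α i ^ n) u) := by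
      intro n
      induction n with
      | zero => intro u; rfl
      | succ n ih => intro u; rw [pow_succ, MulAut.mul_apply, autQ_apply, ih, pow_succ, MulAut.mul_apply]
    ext u
    obtain ⟨u, rfl⟩ := QuotientGroup.mk_surjective u
    rw [h1, h.apow]
    rfl

theorem Nrm.comp {κ : Type*} (h : Nrm x α r) (f : κ → ι) : Nrm (fun i => x (f i)) (fun i => α (f i)) (fun i => r (f i)) :=
  ⟨fun _ => h.prime _, fun _ _ => h.comm _ _, fun _ _ => h.acomm _ _, fun _ => h.act _, fun _ => h.pow _,
    fun _ => h.apow _⟩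

/-- the restriction to the centre -/
def autC (a : MulAut U) : MulAut (Subgroup.center U) where
  toFun z := ⟨a z, mem_center_map a z.2⟩
  invFun z := ⟨a⁻¹ z, mem_center_map a⁻¹ z.2⟩
  left_inv z := Subtype.ext (by simp)
  right_inv z := Subtype.ext (by simp)
  map_mul' z w := Subtype.ext (by simp)

theorem autC_coe (a : MulAut U) (z : Subgroup.center U) : (autC a z : U) = a z := rfl

theorem autC_pow (a : MulAut U) (n : ℕ) (z : Subgroup.center U) : ((autC a ^ n) z : U) = (a ^ n) z := by
  induction n generalizing z with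
  | zero => rfl
  | succ n ih => rw [pow_succ, MulAut.mul_apply, ih, autC_coe, pow_succ, MulAut.mul_apply]

/-- **The nilpotent coprime case.** -/
theorem exists_moved_nil_aux (n : ℕ) : ∀ {U : Type u} [Group U] [Finite U] [Group.IsNilpotent U] {D : Type v}
    [MulAction U D] [Nonempty D] {ι : Type w} [Finite ι] {x : ι → Equiv.Perm D} {α : ι → MulAut U} {r : ι → ℕ}
    (_ : Nrm x α r), (∀ d d' : D, ∃ u : U, u • d = d') → (∀ i, (r i).Coprime (Nat.card U)) →
    (∀ i, ∃ d, x i d ≠ d) → Nat.card U = n → ∃ d, ∀ i, x i d ≠ d := by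
  classical
  induction n using Nat.strong_induction_on with
  | _ n IH =>
    intro U _ _ _ D _ _ ι _ x α r h htr hcop hne hn
    by_cases hU : Subsingleton U
    · obtain ⟨d⟩ := ‹Nonempty D›
      refine ⟨d, fun i => ?_⟩
      exfalso
      obtain ⟨d', hd'⟩ := hne i
      obtain ⟨u, hu⟩ := htr d' (x i d')
      apply hd'
      rw [← hu, Subsingleton.elim u 1, one_smul]
    · have hU' : Nontrivial U := not_subsingleton_iff_nontrivial.1 hU
      have hZ : Nontrivial (Subgroup.center U) :=
        (Subgroup.nontrivial_iff_ne_bot _).2 (Group.IsNilpotent.center_ne_bot (G := U))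
      have hlt : Nat.card (U ⧸ Subgroup.center U) < Nat.card U := by
        rw [Subgroup.card_eq_card_quotient_mul_card_subgroup (Subgroup.center U)]
        have h1 : 1 < Nat.card (Subgroup.center U) := Finite.one_lt_card
        have h2 : 0 < Nat.card (U ⧸ Subgroup.center U) := Nat.card_pos
        nlinarith
      have hdq : Nat.card (U ⧸ Subgroup.center U) ∣ Nat.card U := Subgroup.card_quotient_dvd_card _
      have hdz : Nat.card (Subgroup.center U) ∣ Nat.card U := Subgroup.card_subgroup_dvd_card _
      let _ : MulAction (U ⧸ Subgroup.center U) (Dq U D) := MulAction.compHom (Dq U D) (actQ (U := U) (D := D))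
      have hq := nrm_quot h
      let I1 := {i : ι // ∃ d : Dq U D, permQ (x i) (α i) (h.act i) d ≠ d}
      have hDq : Nonempty (Dq U D) := ⟨cls (Classical.arbitrary D)⟩
      obtain ⟨db, hdb⟩ := IH _ (hn ▸ hlt) (hq.comp (fun i : I1 => i.1))
        (by
          intro d d'
          obtain ⟨d, rfl⟩ := cls_surj d
          obtain ⟨d', rfl⟩ := cls_surj d'
          obtain ⟨u, hu⟩ := htr d d'
          exact ⟨QuotientGroup.mk u, by rw [← hu]; rfl⟩)
        (fun i => (hcop i.1).coprime_dvd_right hdq) (fun i => i.2) rfl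
      obtain ⟨δ, rfl⟩ := cls_surj db
      let I2 := {i : ι // ∀ d : Dq U D, permQ (x i) (α i) (h.act i) d = d}
      -- the orbits of the centre are preserved
      have hpres : ∀ (i : I2) (y : D), cls (x i.1 y) = (cls y : Dq U D) := fun i y => i.2 (cls y)
      have horb : ∀ y y' : D, y ∈ MulAction.orbit (Subgroup.center U) y' ↔ cls y = (cls y' : Dq U D) := by
        intro y y'
        rw [cls_eq]
        constructor
        · rintro ⟨z, hz⟩
          exact ⟨z, z.2, hz⟩
        · rintro ⟨z, hz, h⟩
          exact ⟨⟨z, hz⟩, h⟩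
      let y : I2 → Equiv.Perm (MulAction.orbit (Subgroup.center U) δ) := fun i =>
        (x i.1).subtypePerm (fun d => by rw [horb, horb, hpres i])
      have hy : ∀ (i : I2) (d : MulAction.orbit (Subgroup.center U) δ), ((y i d : _) : D) = x i.1 d := fun i d => rfl
      have hypow : ∀ (i : I2) (m : ℕ) (d : MulAction.orbit (Subgroup.center U) δ),
          (((y i ^ m) d : _) : D) = (x i.1 ^ m) d := by
        intro i m
        induction m with
        | zero => intro d; rfl
        | succ m ih => intro d; rw [pow_succ, Equiv.Perm.mul_apply, ih, hy, pow_succ, Equiv.Perm.mul_apply]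
      have hN : Nrm y (fun i => autC (α i.1)) (fun i => r i.1) := by
        refine ⟨fun _ => h.prime _, ?_, ?_, ?_, ?_, ?_⟩
        · intro i j d
          exact Subtype.ext (h.comm _ _ _)
        · intro i j u
          exact Subtype.ext (h.acomm _ _ _)
        · intro i u d
          exact Subtype.ext (h.act _ _ _)
        · intro i
          ext d
          rw [hypow, h.pow]
          rfl
        · intro i
          ext u
          rw [autC_pow, h.apow]
          rfl
      have hnon : ∀ i : I2, ∃ d, y i d ≠ d := by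
        intro i
        by_contra hcon
        push Not at hcon
        obtain ⟨d', hd'⟩ := hne i.1
        apply hd'
        -- a fixed point in the orbit of `d'`
        have hr := h.prime i.1
        have hrf := Fact.mk hr
        let t : Equiv.Perm (MulAction.orbit (Subgroup.center U) d') :=
          (x i.1).subtypePerm (fun d => by rw [horb, horb, hpres i])
        have htpow : ∀ (m : ℕ) (d : MulAction.orbit (Subgroup.center U) d'), (((t ^ m) d : _) : D) = (x i.1 ^ m) d := by
          intro m
          induction m with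
          | zero => intro d; rfl
          | succ m ih =>
            intro d
            rw [pow_succ, Equiv.Perm.mul_apply, ih, pow_succ, Equiv.Perm.mul_apply]
            rfl
        have hfin : Finite (MulAction.orbit (Subgroup.center U) d') := Set.finite_range _
        have := Fintype.ofFinite (MulAction.orbit (Subgroup.center U) d')
        have hcd : ¬ r i.1 ∣ Fintype.card (MulAction.orbit (Subgroup.center U) d') := by
          intro h1
          have h2 : Fintype.card (MulAction.orbit (Subgroup.center U) d') ∣ Nat.card (Subgroup.center U) := by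
            rw [← Nat.card_eq_fintype_card]
            rw [Nat.card_congr (MulAction.orbitEquivQuotientStabilizer (Subgroup.center U) d')]
            exact Subgroup.card_quotient_dvd_card _
          exact (hr.coprime_iff_not_dvd.1 (hcop i.1)) (h1.trans (h2.trans hdz))
        obtain ⟨e, he⟩ := Equiv.Perm.exists_fixed_point_of_prime (p := r i.1) (n := 1) hcd (σ := t)
          (by
            rw [pow_one]
            ext d
            rw [htpow, h.pow]
            rfl)
        have he' : x i.1 e = e := congrArg Subtype.val he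
        obtain ⟨z, hz⟩ : ∃ z : Subgroup.center U, z • (e : D) = d' := by
          have h1 : d' ∈ MulAction.orbit (Subgroup.center U) (e : D) := by
            rw [MulAction.orbit_eq_iff.2 e.2]
            exact MulAction.mem_orbit_self _
          exact h1
        rw [← hz]
        change x i.1 ((z : U) • (e : D)) = (z : U) • (e : D)
        rw [h.act, he']
        -- on the orbit of `δ`
        have h2 : α i.1 (z : U) • δ = (z : U) • δ := by
          have h3 := congrArg Subtype.val (hcon ⟨(z : U) • δ, ⟨z, rfl⟩⟩)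
          have h4 := congrArg Subtype.val (hcon ⟨δ, MulAction.mem_orbit_self _⟩)
          change x i.1 ((z : U) • δ) = (z : U) • δ at h3
          change x i.1 δ = δ at h4
          rw [h.act, h4] at h3
          exact h3
        obtain ⟨u, hu⟩ := htr δ (e : D)
        have h5 := Subgroup.mem_center_iff.1 z.2 u
        have h6 := Subgroup.mem_center_iff.1 (mem_center_map (α i.1) z.2) u
        rw [← hu, ← mul_smul, ← mul_smul, ← h5, ← h6, mul_smul, mul_smul, h2]
      have hne2 : Nonempty (MulAction.orbit (Subgroup.center U) δ) := ⟨⟨δ, MulAction.mem_orbit_self _⟩⟩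
      let _ : CommGroup (Subgroup.center U) :=
        { (inferInstance : Group (Subgroup.center U)) with
          mul_comm := fun a b => Subtype.ext (Subgroup.mem_center_iff.1 b.2 a) }
      obtain ⟨d, hd⟩ := exists_moved (U := Subgroup.center U) hN
        (by
          intro d d'
          obtain ⟨z, hz⟩ := MulAction.exists_smul_eq (Subgroup.center U) d d'
          exact ⟨z, hz⟩)
        (fun i j hi => absurd ((hcop i.1).coprime_dvd_right hdz) hi) hnon
      refine ⟨d, fun i => ?_⟩
      by_cases hi : ∃ d : Dq U D, permQ (x i) (α i) (h.act i) d ≠ d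
      · intro h1
        have h2 := hdb ⟨i, hi⟩
        apply h2
        have h3 : (cls (d : D) : Dq U D) = cls δ := (horb _ _).1 d.2
        change permQ (x i) (α i) (h.act i) (cls δ) = cls δ
        rw [← h3, permQ_apply, h1]
      · push Not at hi
        intro h1
        exact hd ⟨i, hi⟩ (Subtype.ext h1)

end nil

/-! ### covers -/

section cover

variable {G Ω ι : Type*} [Group G] [MulAction G Ω] [Finite ι] {x : ι → G} {r : ι → ℕ}

/-- conjugation by an element of the normalizer -/
def conjU {U : Subgroup G} (x : G) (h : ∀ u, u ∈ U ↔ x * u * x⁻¹ ∈ U) : MulAut U where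
  toFun u := ⟨x * u * x⁻¹, (h u).1 u.2⟩
  invFun u := ⟨x⁻¹ * u * x, (h _).2 (by
    have : x * (x⁻¹ * (u : G) * x) * x⁻¹ = u := by group
    rw [this]
    exact u.2)⟩
  left_inv u := Subtype.ext (by
    change x⁻¹ * (x * (u : G) * x⁻¹) * x = u
    group)
  right_inv u := Subtype.ext (by
    change x * (x⁻¹ * (u : G) * x) * x⁻¹ = u
    group)
  map_mul' u v := Subtype.ext (by
    change x * ((u : G) * v) * x⁻¹ = x * (u : G) * x⁻¹ * (x * v * x⁻¹)
    group)

theorem conjU_coe {U : Subgroup G} (x : G) (h : ∀ u, u ∈ U ↔ x * u * x⁻¹ ∈ U) (u : U) :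
    ((conjU x h u : U) : G) = x * u * x⁻¹ := rfl

/-- **One of the `x i` fixes the whole orbit.** The `x i` commute, have prime orders, normalise `U`, every point is fixed
by some `x i`; `U` is abelian and at most one of the `r i` divides `|U|`, or `U` is nilpotent and no `r i` does. -/
theorem cover (hr : ∀ i, (r i).Prime) (hx : ∀ i, x i ^ r i = 1) (hc : ∀ i j, x i * x j = x j * x i)
    (hcov : ∀ ω : Ω, ∃ i, x i • ω = ω) {U : Subgroup G} [Finite U] (hU : ∀ i, ∀ u ∈ U, x i * u * (x i)⁻¹ ∈ U)
    (hUr : ((∀ u ∈ U, ∀ v ∈ U, u * v = v * u) ∧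
        ∀ i j, ¬ (r i).Coprime (Nat.card U) → ¬ (r j).Coprime (Nat.card U) → i = j) ∨
      (Group.IsNilpotent U ∧ ∀ i, (r i).Coprime (Nat.card U))) (ω : Ω) :
    ∃ i, ∀ u ∈ U, x i • u • ω = u • ω := by
  classical
  by_contra hcon
  push Not at hcon
  have hU' : ∀ i u, u ∈ U ↔ x i * u * (x i)⁻¹ ∈ U := by
    intro i u
    refine ⟨hU i u, fun h => ?_⟩
    have h1 : ∀ n : ℕ, x i ^ n * (x i * u * (x i)⁻¹) * (x i ^ n)⁻¹ ∈ U := by
      intro n
      induction n with
      | zero => simpa using h
      | succ n ih =>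
        have h2 := hU i _ ih
        have h3 : x i * (x i ^ n * (x i * u * (x i)⁻¹) * (x i ^ n)⁻¹) * (x i)⁻¹ =
            x i ^ (n + 1) * (x i * u * (x i)⁻¹) * (x i ^ (n + 1))⁻¹ := by
          rw [pow_succ']
          group
        rwa [h3] at h2
    obtain ⟨n, hn⟩ : ∃ n, r i = n + 1 := ⟨r i - 1, by have := (hr i).pos; omega⟩
    have h4 := h1 n
    have h5 : x i ^ n = (x i)⁻¹ := by
      rw [eq_inv_iff_mul_eq_one, ← pow_succ, ← hn]
      exact hx i
    rw [h5] at h4
    have h6 : (x i)⁻¹ * (x i * u * (x i)⁻¹) * ((x i)⁻¹)⁻¹ = u := by group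
    rwa [h6] at h4
  -- the `x i` with a fixed point in the orbit
  let I := {i : ι // ∃ u ∈ U, x i • u • ω = u • ω}
  have hpres : ∀ (i : I) (y : Ω), y ∈ MulAction.orbit U ω ↔ x i.1 • y ∈ MulAction.orbit U ω := by
    rintro ⟨i, u, hu, hi⟩ y
    constructor
    · rintro ⟨v, rfl⟩
      refine ⟨⟨x i * (v * u⁻¹) * (x i)⁻¹ * u, U.mul_mem (hU i _ (U.mul_mem v.2 (U.inv_mem hu))) hu⟩, ?_⟩
      change (x i * (v * u⁻¹) * (x i)⁻¹ * u) • ω = x i • (v : G) • ω
      have h1 : (x i)⁻¹ • u • ω = u • ω := by rw [inv_smul_eq_iff, hi]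
      rw [mul_smul, mul_smul, h1, mul_smul, mul_smul, inv_smul_smul]
    · rintro ⟨v, hv⟩
      change (v : G) • ω = x i • y at hv
      have h1 : (x i)⁻¹ * (v * u⁻¹) * x i ∈ U := by
        rw [hU' i]
        have h2 : x i * ((x i)⁻¹ * (v * u⁻¹) * x i) * (x i)⁻¹ = v * u⁻¹ := by group
        rw [h2]
        exact U.mul_mem v.2 (U.inv_mem hu)
      refine ⟨⟨(x i)⁻¹ * (v * u⁻¹) * x i * u, U.mul_mem h1 hu⟩, ?_⟩
      change ((x i)⁻¹ * (v * u⁻¹) * x i * u) • ω = y
      rw [mul_smul, mul_smul, hi, mul_smul, mul_smul, inv_smul_smul, hv, inv_smul_smul]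
  let y : I → Equiv.Perm (MulAction.orbit U ω) := fun i =>
    { toFun := fun d => ⟨x i.1 • (d : Ω), (hpres i d).1 d.2⟩
      invFun := fun d => ⟨(x i.1)⁻¹ • (d : Ω), (hpres i _).2 (by rw [smul_inv_smul]; exact d.2)⟩
      left_inv := fun d => Subtype.ext (inv_smul_smul _ _)
      right_inv := fun d => Subtype.ext (smul_inv_smul _ _) }
  have hy : ∀ (i : I) (d : MulAction.orbit U ω), ((y i d : _) : Ω) = x i.1 • (d : Ω) := fun i d => rfl
  have hypow : ∀ (i : I) (m : ℕ) (d : MulAction.orbit U ω), (((y i ^ m) d : _) : Ω) = x i.1 ^ m • (d : Ω) := by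
    intro i m
    induction m with
    | zero => intro d; simp
    | succ m ih => intro d; rw [pow_succ, Equiv.Perm.mul_apply, ih, hy, pow_succ, mul_smul]
  have hαpow : ∀ (i : ι) (m : ℕ) (u : U), (((conjU (x i) (hU' i) ^ m) u : U) : G) = x i ^ m * u * (x i ^ m)⁻¹ := by
    intro i m
    induction m with
    | zero => intro u; simp
    | succ m ih =>
      intro u
      rw [pow_succ, MulAut.mul_apply, ih, conjU_coe, pow_succ]
      group
  have hN : Nrm y (fun i => conjU (x i.1) (hU' i.1)) (fun i => r i.1) := by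
    refine ⟨fun i => hr _, ?_, ?_, ?_, ?_, ?_⟩
    · intro i j d
      apply Subtype.ext
      rw [hy, hy, hy, hy, ← mul_smul, ← mul_smul, hc]
    · intro i j u
      apply Subtype.ext
      rw [conjU_coe, conjU_coe, conjU_coe, conjU_coe]
      have h1 := hc i.1 j.1
      have h2 : x i.1 * (x j.1 * (u : G) * (x j.1)⁻¹) * (x i.1)⁻¹ = (x i.1 * x j.1) * u * (x i.1 * x j.1)⁻¹ := by group
      rw [h2, h1]
      group
    · intro i u d
      apply Subtype.ext
      change x i.1 • (u : G) • (d : Ω) = (x i.1 * u * (x i.1)⁻¹) • x i.1 • (d : Ω)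
      rw [← mul_smul, ← mul_smul]
      group
    · intro i
      ext d
      rw [hypow, hx, one_smul]
      rfl
    · intro i
      ext u
      rw [hαpow, hx]
      simp
  have hne : ∀ i : I, ∃ d, y i d ≠ d := by
    intro i
    obtain ⟨u, hu, h1⟩ := hcon i.1
    exact ⟨⟨u • ω, ⟨⟨u, hu⟩, rfl⟩⟩, fun h2 => h1 (congrArg Subtype.val h2)⟩
  have hno : Nonempty (MulAction.orbit U ω) := ⟨⟨ω, MulAction.mem_orbit_self _⟩⟩
  have htr : ∀ d d' : MulAction.orbit U ω, ∃ u : U, u • d = d' := fun d d' => MulAction.exists_smul_eq U d d'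
  obtain ⟨d, hd⟩ : ∃ d, ∀ i : I, y i d ≠ d := by
    rcases hUr with ⟨hab, huq⟩ | ⟨hnil, hco⟩
    · let _ : CommGroup U :=
        { (inferInstance : Group U) with mul_comm := fun a b => Subtype.ext (hab a a.2 b b.2) }
      exact exists_moved (U := U) hN htr (fun i j hi hj => Subtype.ext (huq _ _ hi hj)) hne
    · exact exists_moved_nil_aux _ hN htr (fun i => hco i.1) hne rfl
  obtain ⟨i, hi⟩ := hcov d
  obtain ⟨u, hu⟩ := d.2
  have hu' : (u : G) • ω = d := hu
  have hiI : ∃ u ∈ U, x i • u • ω = u • ω := ⟨u, u.2, by rw [hu', hi]⟩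
  exact hd ⟨i, hiI⟩ (Subtype.ext hi)

end cover

end Cfsg.Agent.H202.RC
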