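import Cfsg.Agent.H202.RC.NoLin
import Cfsg.Agent.H368.RC.NoPrime

/-!
# S3510, row A, box Z: `no_lin`
-/

set_option autoImplicit false
open Cfsg

namespace Cfsg.Agent.H202.RC

open MulAction Cfsg.Agent.H106.RC Module

/-- **The linear theorem** (`hL` of `row_psl`): no cover by linear elements. -/
theorem no_lin (F V G Ω ι : Type) [Field F] [Finite F] [AddCommGroup V] [Module F V] [Module.Finite F V] [Group G]
    [Finite G] [Finite Ω] [Nonempty Ω] [MulAction G Ω] [Finite ι] (N : Subgroup G) (κ : SLV F V →* G) (x : ι → G)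
    (r : ι → ℕ) (a : ι → V ≃ₗ[F] V) (h : LinCov Ω N κ x r a) (hn : 3 ≤ finrank F V)
    (hne : ¬ (Nat.card F = 2 ∧ finrank F V = 4)) (hIH : IH (Nat.card N)) : False :=
  no_lin_of_prime h hn hne hIH fun hp h3 hirr => H368.RC.no_prime h hp h3 hirr

end Cfsg.Agent.H202.RC
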