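import Cfsg.Agent.H202.RC.Frame

/-!
# Characters of vector spaces over finite fields; transitivity of `SL(V)` on pairs of independent vectors
-/

set_option autoImplicit false
open Cfsg

namespace Cfsg.Agent.H202.RC

open Module

section dual

variable {F X : Type*} [Field F] [Finite F] [AddCommGroup X] [Module F X] [Module.Finite F X]

/-- a nontrivial additive character of a finite field -/
theorem exists_psi (F : Type*) [Field F] [Finite F] : ∃ ψ : AddChar F ℂ, ψ ≠ 1 := by
  classical
  cases nonempty_fintype F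
  have h1 : Fintype.card (AddChar F ℂ) = Fintype.card F := AddChar.card_eq
  have h2 : 1 < Fintype.card (AddChar F ℂ) := by rw [h1]; exact Fintype.one_lt_card
  have := Fintype.one_lt_card_iff_nontrivial.1 h2
  exact exists_ne 1

/-- every additive character of `X` is `ψ ∘ ℓ` -/
theorem exists_dual {ψ : AddChar F ℂ} (hψ : ψ ≠ 1) (χ : AddChar X ℂ) : ∃ ℓ : Dual F X, ∀ x, χ x = ψ (ℓ x) := by
  classical
  have hfX : Finite X := Module.finite_of_finite F
  have hfD : Finite (Dual F X) := Module.finite_of_finite F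
  cases nonempty_fintype X
  cases nonempty_fintype (Dual F X)
  let f : Dual F X → AddChar X ℂ := fun ℓ => ψ.compAddMonoidHom ℓ.toAddMonoidHom
  have hf : ∀ ℓ x, f ℓ x = ψ (ℓ x) := fun _ _ => rfl
  have hinj : Function.Injective f := by
    intro ℓ ℓ' h
    by_contra hne
    obtain ⟨x, hx⟩ : ∃ x, (ℓ - ℓ') x ≠ 0 := by
      by_contra hno
      push Not at hno
      exact hne (sub_eq_zero.1 (LinearMap.ext hno))
    apply hψ
    ext c
    have h1 := DFunLike.congr_fun h ((c / (ℓ - ℓ') x) • x)
    rw [hf, hf] at h1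
    have h2 : ψ ((ℓ - ℓ') ((c / (ℓ - ℓ') x) • x)) = 1 := by
      rw [LinearMap.sub_apply, AddChar.map_sub_eq_div, h1, div_self]
      exact (ψ.val_isUnit _).ne_zero
    rw [map_smul, smul_eq_mul, div_mul_cancel₀ _ hx] at h2
    rw [h2]
    rfl
  cases nonempty_fintype F
  have hcard : Fintype.card (Dual F X) = Fintype.card (AddChar X ℂ) := by
    rw [AddChar.card_eq, Module.card_eq_pow_finrank (K := F) (V := Dual F X), Module.card_eq_pow_finrank (K := F) (V := X),
      Subspace.dual_finrank_eq]
  obtain ⟨ℓ, hℓ⟩ := ((Fintype.bijective_iff_injective_and_card f).2 ⟨hinj, hcard⟩).2 χ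
  exact ⟨ℓ, fun x => by rw [← hℓ, hf]⟩

end dual

section trans

variable {F V : Type*} [Field F] [AddCommGroup V] [Module F V]

theorem exists_notMem_pair (hn : 3 ≤ finrank F V) (v u : V) : ∃ w, w ∉ Submodule.span F {v, u} := by
  by_contra hno
  push Not at hno
  have h1 : Submodule.span F ({v, u} : Set V) = ⊤ := by
    rw [eq_top_iff]; exact fun w _ => hno w
  have h2 : finrank F (Submodule.span F ({v, u} : Set V)) ≤ 2 := by
    classical
    have := finrank_span_finset_le_card (R := F) ({v, u} : Finset V)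
    rw [Finset.coe_pair] at this
    exact this.trans Finset.card_le_two
  rw [h1, finrank_top] at h2
  omega

/-- one transvection -/
theorem tv_step {v u u' : V} (hu : u ∉ Submodule.span F {v, u' - u}) :
    ∃ s : SLV F V, (s : V ≃ₗ[F] V) v = v ∧ (s : V ≃ₗ[F] V) u = u' := by
  obtain ⟨f, hf1, hf2⟩ := Submodule.exists_le_ker_of_notMem hu
  have h1 : f v = 0 := hf2 (Submodule.subset_span (by simp))
  have h2 : f (u' - u) = 0 := hf2 (Submodule.subset_span (by simp))
  have h3 : ((f u)⁻¹ • f : Dual F V) (u' - u) = 0 := by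
    rw [LinearMap.smul_apply, h2, smul_zero]
  refine ⟨tv ((f u)⁻¹ • f) (u' - u) h3, ?_, ?_⟩
  · rw [tv_apply, LinearMap.smul_apply, h1, smul_zero, zero_smul, add_zero]
  · rw [tv_apply, LinearMap.smul_apply, smul_eq_mul, inv_mul_cancel₀ hf1, one_smul, add_sub_cancel]

theorem exists_sl (hn : 3 ≤ finrank F V) {v u u' : V} (hu : u ∉ Submodule.span F {v})
    (hu' : u' ∉ Submodule.span F {v}) : ∃ s : SLV F V, (s : V ≃ₗ[F] V) v = v ∧ (s : V ≃ₗ[F] V) u = u' := by
  by_cases h : u ∈ Submodule.span F {v, u' - u}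
  · obtain ⟨w, hw⟩ := exists_notMem_pair hn v u
    have hv0 : ∀ α : F, α • v ∈ Submodule.span F {v} := fun α =>
      Submodule.smul_mem _ _ (Submodule.mem_span_singleton_self v)
    -- `u' ∈ ⟨v, u⟩`
    obtain ⟨α, β, h1⟩ := Submodule.mem_span_pair.1 h
    have hβ : β ≠ 0 := by
      rintro rfl
      apply hu
      rw [← h1, zero_smul, add_zero]
      exact hv0 α
    have h3 : u' - u = β⁻¹ • (u - α • v) := by
      rw [eq_inv_smul_iff₀ hβ]
      exact eq_sub_of_add_eq' h1
    have h2 : u' = (-(β⁻¹ * α)) • v + (β⁻¹ + 1) • u := by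
      have : u' = u + β⁻¹ • (u - α • v) := by rw [← h3]; abel
      rw [this]; module
    have hwv : ∀ γ δ : F, γ • v + δ • u ≠ w := fun γ δ e => hw (Submodule.mem_span_pair.2 ⟨γ, δ, e⟩)
    have a1 : u ∉ Submodule.span F {v, w - u} := by
      intro hm
      obtain ⟨γ, δ, e⟩ := Submodule.mem_span_pair.1 hm
      have hδ : δ ≠ 0 := by
        rintro rfl
        apply hu
        rw [← e, zero_smul, add_zero]
        exact hv0 γ
      apply hwv (-(δ⁻¹ * γ)) (δ⁻¹ + 1)
      have e1 : w - u = δ⁻¹ • (u - γ • v) := by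
        rw [eq_inv_smul_iff₀ hδ]
        exact eq_sub_of_add_eq' e
      have : w = u + δ⁻¹ • (u - γ • v) := by rw [← e1]; abel
      rw [this]; module
    have a2 : w ∉ Submodule.span F {v, u' - w} := by
      intro hm
      obtain ⟨γ, δ, e⟩ := Submodule.mem_span_pair.1 hm
      by_cases hδ : 1 + δ = 0
      · apply hu'
        have hδ' : δ = -1 := by linear_combination hδ
        rw [hδ'] at e
        have : u' = γ • v := by
          have e2 : γ • v + (-1 : F) • (u' - w) - w = 0 := by rw [e, sub_self]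
          have e3 : γ • v - u' = 0 := by rw [← e2]; module
          exact (sub_eq_zero.1 e3).symm
        rw [this]
        exact hv0 γ
      · have e2 : (1 + δ) • w = γ • v + δ • u' := by
          have : γ • v + δ • (u' - w) + δ • w = (1 + δ) • w := by rw [e]; module
          rw [← this]; module
        have e3 : w = (1 + δ)⁻¹ • (γ • v + δ • u') := by
          rw [eq_inv_smul_iff₀ hδ]; exact e2
        apply hwv ((1 + δ)⁻¹ * (γ + δ * (-(β⁻¹ * α)))) ((1 + δ)⁻¹ * (δ * (β⁻¹ + 1)))
        rw [e3, h2]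
        module
    obtain ⟨s, hs1, hs2⟩ := tv_step a1
    obtain ⟨t, ht1, ht2⟩ := tv_step a2
    exact ⟨t * s, by rw [coe_mul_apply, hs1, ht1], by rw [coe_mul_apply, hs2, ht2]⟩
  · exact tv_step h

end trans

end Cfsg.Agent.H202.RC
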