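import Cfsg.Agent.H106.RC.Cover
import Cfsg.Agent.LieClassical.SLGen

/-!
# S3510, row A (linear groups): the common setting

`SLV F V = SL(V)` (kernel of the determinant on `V ≃ₗ[F] V`), `tv φ v h` transvections `x ↦ x + φ x • v`,
`cj a s = a s a⁻¹`.  `Frame Ω N κ` : `κ : SL(V) →* G` has image `N` and kernel the scalars, `Env G Ω N`.
`Lifts κ x f` : the additive bijection `f : V ≃+ V` (semilinear) lifts `x : G`.
`LinCov` : a minimal cover by elements with commuting linear lifts.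
-/

set_option autoImplicit false
open Cfsg

namespace Cfsg.Agent.H202.RC

open MulAction Cfsg.Agent.H106.RC Module
open scoped commutatorElement

section sl

variable {F V : Type*} [Field F] [AddCommGroup V] [Module F V]

/-- `SL(V)` -/
noncomputable abbrev SLV (F V : Type*) [Field F] [AddCommGroup V] [Module F V] : Subgroup (V ≃ₗ[F] V) :=
  (LinearEquiv.det (R := F) (M := V)).ker

theorem mem_SLV {a : V ≃ₗ[F] V} : a ∈ SLV F V ↔ LinearMap.det (a : V →ₗ[F] V) = 1 := by
  rw [MonoidHom.mem_ker, ← Units.val_inj, LinearEquiv.coe_det, Units.val_one]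

/-- the transvection `x ↦ x + φ x • v` -/
noncomputable def tv (φ : Dual F V) (v : V) (h : φ v = 0) : SLV F V :=
  ⟨LinearEquiv.transvection h, LinearEquiv.transvection.det_eq_one h⟩

@[simp] theorem tv_apply (φ : Dual F V) (v : V) (h : φ v = 0) (x : V) :
    (tv φ v h : V ≃ₗ[F] V) x = x + φ x • v := LinearEquiv.transvection.apply h x

theorem SLV.ext {s t : SLV F V} (h : ∀ v, (s : V ≃ₗ[F] V) v = (t : V ≃ₗ[F] V) v) : s = t :=
  Subtype.ext (LinearEquiv.ext h)

@[simp] theorem coe_mul_apply (s t : SLV F V) (v : V) :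
    ((s * t : SLV F V) : V ≃ₗ[F] V) v = (s : V ≃ₗ[F] V) ((t : V ≃ₗ[F] V) v) := rfl

@[simp] theorem coe_one_apply (v : V) : ((1 : SLV F V) : V ≃ₗ[F] V) v = v := rfl

@[simp] theorem coe_inv_apply (s : SLV F V) (v : V) :
    ((s⁻¹ : SLV F V) : V ≃ₗ[F] V) ((s : V ≃ₗ[F] V) v) = v := (s : V ≃ₗ[F] V).symm_apply_apply v

@[simp] theorem coe_apply_inv (s : SLV F V) (v : V) :
    (s : V ≃ₗ[F] V) (((s⁻¹ : SLV F V) : V ≃ₗ[F] V) v) = v := (s : V ≃ₗ[F] V).apply_symm_apply v

/-- conjugation of `SL(V)` by an element of `GL(V)` -/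
noncomputable def cj (a : V ≃ₗ[F] V) (s : SLV F V) : SLV F V :=
  ⟨a * s * a⁻¹, (inferInstance : (SLV F V).Normal).conj_mem _ s.2 a⟩

theorem cj_coe (a : V ≃ₗ[F] V) (s : SLV F V) : (cj a s : V ≃ₗ[F] V) = a * s * a⁻¹ := rfl

@[simp] theorem cj_apply (a : V ≃ₗ[F] V) (s : SLV F V) (v : V) :
    (cj a s : V ≃ₗ[F] V) (a v) = a ((s : V ≃ₗ[F] V) v) := by
  change a ((s : V ≃ₗ[F] V) (a⁻¹ (a v))) = _
  rw [show a⁻¹ (a v) = v from a.symm_apply_apply v]

theorem cj_eq {a : V ≃ₗ[F] V} {s t : SLV F V} (h : ∀ v, (t : V ≃ₗ[F] V) (a v) = a ((s : V ≃ₗ[F] V) v)) :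
    cj a s = t := by
  apply SLV.ext
  intro v
  obtain ⟨w, rfl⟩ := a.surjective v
  rw [cj_apply, h]

@[simp] theorem cj_one (s : SLV F V) : cj 1 s = s := cj_eq fun _ => rfl

theorem cj_mul (a b : V ≃ₗ[F] V) (s : SLV F V) : cj (a * b) s = cj a (cj b s) := by
  apply Subtype.ext
  rw [cj_coe, cj_coe, cj_coe, mul_inv_rev]
  group

theorem cj_sl (t s : SLV F V) : cj (t : V ≃ₗ[F] V) s = t * s * t⁻¹ := rfl

theorem cj_tv (a : V ≃ₗ[F] V) (φ : Dual F V) (v : V) (h : φ v = 0) :
    cj a (tv φ v h) = tv (φ ∘ₗ (a.symm : V →ₗ[F] V)) (a v) (by simpa using h) := by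
  apply cj_eq
  intro x
  simp

theorem tv_mul_right (φ : Dual F V) (v w : V) (hv : φ v = 0) (hw : φ w = 0) :
    tv φ v hv * tv φ w hw = tv φ (v + w) (by rw [map_add, hv, hw, add_zero]) := by
  apply SLV.ext
  intro x
  rw [coe_mul_apply, tv_apply, tv_apply, tv_apply, map_add, map_smul, hw, smul_zero, add_zero, smul_add]
  abel

theorem tv_mul_left (φ ψ : Dual F V) (v : V) (hφ : φ v = 0) (hψ : ψ v = 0) :
    tv φ v hφ * tv ψ v hψ = tv (φ + ψ) v (by simp [hφ, hψ]) := by
  apply SLV.ext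
  intro x
  rw [coe_mul_apply, tv_apply, tv_apply, tv_apply, map_add, map_smul, hφ, smul_zero, add_zero,
    LinearMap.add_apply, add_smul]
  abel

theorem tv_zero_right (φ : Dual F V) : tv φ 0 (map_zero φ) = 1 := by
  apply SLV.ext
  intro x
  simp

theorem tv_zero_left (v : V) : tv 0 v (LinearMap.zero_apply v) = (1 : SLV F V) := by
  apply SLV.ext
  intro x
  simp

end sl

/-! ### matrices, generation by transvections -/

section gen

variable {F V : Type*} [Field F] [AddCommGroup V] [Module F V] {ι : Type*} [Fintype ι] [DecidableEq ι]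

/-- `SL_n(F) ≃ SL(V)` from a basis -/
noncomputable def slE (b : Basis ι F V) : Matrix.SpecialLinearGroup ι F ≃* SLV F V where
  toFun A := ⟨LinearEquiv.ofLinearMap (Matrix.toLin b b A.1) (Matrix.toLin b b A⁻¹.1)
      (by rw [← Matrix.toLin_mul, ← Matrix.SpecialLinearGroup.coe_mul, mul_inv_cancel,
            Matrix.SpecialLinearGroup.coe_one, Matrix.toLin_one])
      (by rw [← Matrix.toLin_mul, ← Matrix.SpecialLinearGroup.coe_mul, inv_mul_cancel,
            Matrix.SpecialLinearGroup.coe_one, Matrix.toLin_one]), by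
      rw [mem_SLV]
      have : ((LinearEquiv.ofLinearMap (Matrix.toLin b b A.1) (Matrix.toLin b b A⁻¹.1)
        (by rw [← Matrix.toLin_mul, ← Matrix.SpecialLinearGroup.coe_mul, mul_inv_cancel,
            Matrix.SpecialLinearGroup.coe_one, Matrix.toLin_one])
        (by rw [← Matrix.toLin_mul, ← Matrix.SpecialLinearGroup.coe_mul, inv_mul_cancel,
            Matrix.SpecialLinearGroup.coe_one, Matrix.toLin_one]) : V ≃ₗ[F] V) : V →ₗ[F] V)
          = Matrix.toLin b b A.1 := rfl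
      rw [this, LinearMap.det_toLin, A.2]⟩
  invFun s := ⟨LinearMap.toMatrix b b ((s : V ≃ₗ[F] V) : V →ₗ[F] V), by
    rw [LinearMap.det_toMatrix]
    exact mem_SLV.1 s.2⟩
  left_inv A := by
    apply Subtype.ext
    exact LinearMap.toMatrix_toLin b b A.1
  right_inv s := by
    apply SLV.ext
    intro v
    change (Matrix.toLin b b (LinearMap.toMatrix b b ((s : V ≃ₗ[F] V) : V →ₗ[F] V))) v = _
    rw [Matrix.toLin_toMatrix]
    rfl
  map_mul' A B := by
    apply SLV.ext
    intro v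
    change (Matrix.toLin b b (A * B : Matrix.SpecialLinearGroup ι F).1) v = _
    rw [Matrix.SpecialLinearGroup.coe_mul, Matrix.toLin_mul b b b]
    rfl

theorem slE_apply (b : Basis ι F V) (A : Matrix.SpecialLinearGroup ι F) (v : V) :
    (slE b A : V ≃ₗ[F] V) v = Matrix.toLin b b A.1 v := rfl

theorem slE_transvection (b : Basis ι F V) {i j : ι} (hij : i ≠ j) (c : F) :
    slE b (Matrix.SpecialLinearGroup.transvection hij c) =
      tv (b.coord j) (c • b i) (by simp [Basis.coord_apply, hij]) := by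
  apply SLV.ext
  intro v
  rw [slE_apply, tv_apply]
  refine b.ext_elem fun k => ?_
  rw [Matrix.repr_toLin]
  change ((1 + Matrix.single i j c : Matrix ι ι F).mulVec (b.repr v)) k = _
  rw [Matrix.add_mulVec, Matrix.one_mulVec, Matrix.single_mulVec_eq]
  simp only [Pi.add_apply, Pi.smul_apply, Pi.single_apply, smul_eq_mul, map_add, map_smul, Basis.coord_apply,
    Basis.repr_self, Finsupp.add_apply, Finsupp.smul_apply, Finsupp.single_apply]
  by_cases h : k = i
  · subst h; simp [mul_comm]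
  · simp [h, Ne.symm h]

theorem closure_tv_basis (b : Basis ι F V) : Subgroup.closure {s : SLV F V | ∃ (i j : ι) (hij : i ≠ j) (c : F),
    s = tv (b.coord j) (c • b i) (by simp [Basis.coord_apply, hij])} = ⊤ := by
  have h1 := congrArg (Subgroup.map (slE b).toMonoidHom) (LieClassical.SLGen.closure_transvections (ι := ι) (F := F))
  rw [MonoidHom.map_closure, ← MonoidHom.range_eq_map, MonoidHom.range_eq_top.2 (slE b).surjective] at h1
  rw [← h1]
  congr 1
  ext s
  constructor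
  · rintro ⟨i, j, hij, c, rfl⟩
    exact ⟨Matrix.SpecialLinearGroup.transvection hij c, ⟨i, j, hij, c, rfl⟩, slE_transvection b hij c⟩
  · rintro ⟨_, ⟨i, j, hij, c, rfl⟩, rfl⟩
    exact ⟨i, j, hij, c, slE_transvection b hij c⟩

theorem closure_tv [Module.Finite F V] :
    Subgroup.closure {s : SLV F V | ∃ (φ : Dual F V) (v : V) (h : φ v = 0), s = tv φ v h} = ⊤ := by
  classical
  rw [eq_top_iff, ← closure_tv_basis (Module.finBasis F V), Subgroup.closure_le]
  rintro _ ⟨i, j, hij, c, rfl⟩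
  exact Subgroup.subset_closure ⟨_, _, _, rfl⟩

end gen

/-! ### unipotent radicals `Hom(V/W, W)` -/

section rad

variable {F V : Type*} [Field F] [AddCommGroup V] [Module F V]

/-- `1 + h` for `h` with square zero -/
noncomputable def uh (h : V →ₗ[F] V) (hh : ∀ v, h (h v) = 0) : SLV F V :=
  ⟨LinearEquiv.ofLinearMap (LinearMap.id + h) (LinearMap.id - h)
    (by ext v; simp [hh]) (by ext v; simp [hh]), by
      rw [mem_SLV]
      change LinearMap.det (LinearMap.id + h) = 1
      by_cases hf : Module.Finite F V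
      · have h1 := LinearMap.eval_charpoly (-h) 1
        have h2 : (-h).charpoly = Polynomial.X ^ finrank F V := by
          rw [LinearMap.charpoly_eq_X_pow_iff]
          intro m
          exact ⟨2, by rw [pow_two, Module.End.mul_apply]; simp [hh]⟩
        rw [h2, map_one] at h1
        simp only [Polynomial.eval_pow, Polynomial.eval_X, one_pow, sub_neg_eq_add] at h1
        exact h1.symm
      · exact LinearMap.det_eq_one_of_not_module_finite hf _⟩

@[simp] theorem uh_apply (h : V →ₗ[F] V) (hh : ∀ v, h (h v) = 0) (v : V) :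
    (uh h hh : V ≃ₗ[F] V) v = v + h v := rfl

/-- `Hom(V/W, W)` as a subgroup of `SL(V)` -/
def QW (W : Submodule F V) : Subgroup (SLV F V) where
  carrier := {s | (∀ v, (s : V ≃ₗ[F] V) v - v ∈ W) ∧ ∀ w ∈ W, (s : V ≃ₗ[F] V) w = w}
  one_mem' := ⟨fun v => by simp, fun w _ => rfl⟩
  mul_mem' := by
    rintro s t ⟨hs, hs'⟩ ⟨ht, ht'⟩
    refine ⟨fun v => ?_, fun w hw => ?_⟩
    · rw [coe_mul_apply]
      have h1 := hs ((t : V ≃ₗ[F] V) v)
      have h2 := W.add_mem h1 (ht v)
      simpa using h2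
    · rw [coe_mul_apply, ht' w hw, hs' w hw]
  inv_mem' := by
    rintro s ⟨hs, hs'⟩
    refine ⟨fun v => ?_, fun w hw => ?_⟩
    · have h1 := hs (((s⁻¹ : SLV F V) : V ≃ₗ[F] V) v)
      rw [coe_apply_inv] at h1
      have h2 := W.neg_mem h1
      simpa using h2
    · conv_lhs => rw [← hs' w hw]
      rw [coe_inv_apply]

theorem mem_QW {W : Submodule F V} {s : SLV F V} :
    s ∈ QW W ↔ (∀ v, (s : V ≃ₗ[F] V) v - v ∈ W) ∧ ∀ w ∈ W, (s : V ≃ₗ[F] V) w = w := Iff.rfl

theorem uh_mem_QW {W : Submodule F V} {h : V →ₗ[F] V} (hh : ∀ v, h (h v) = 0) (h1 : ∀ v, h v ∈ W)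
    (h2 : ∀ w ∈ W, h w = 0) : uh h hh ∈ QW W := by
  refine ⟨fun v => ?_, fun w hw => ?_⟩
  · rw [uh_apply, add_sub_cancel_left]; exact h1 v
  · rw [uh_apply, h2 w hw, add_zero]

theorem exists_uh {W : Submodule F V} {s : SLV F V} (hs : s ∈ QW W) :
    ∃ (h : V →ₗ[F] V) (hh : ∀ v, h (h v) = 0), (∀ v, h v ∈ W) ∧ (∀ w ∈ W, h w = 0) ∧ s = uh h hh := by
  let h : V →ₗ[F] V := ((s : V ≃ₗ[F] V) : V →ₗ[F] V) - LinearMap.id
  have h0 : ∀ v, h v = (s : V ≃ₗ[F] V) v - v := fun v => rfl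
  have h1 : ∀ v, h v ∈ W := fun v => by rw [h0]; exact hs.1 v
  have h2 : ∀ w ∈ W, h w = 0 := fun w hw => by rw [h0, hs.2 w hw, sub_self]
  refine ⟨h, fun v => h2 _ (h1 v), h1, h2, ?_⟩
  apply SLV.ext
  intro v
  rw [uh_apply, h0, add_sub_cancel]

theorem QW_comm {W : Submodule F V} {s t : SLV F V} (hs : s ∈ QW W) (ht : t ∈ QW W) : s * t = t * s := by
  obtain ⟨h, hh, h1, h2, rfl⟩ := exists_uh hs
  obtain ⟨k, hk, k1, k2, rfl⟩ := exists_uh ht
  apply SLV.ext
  intro v
  simp only [coe_mul_apply, uh_apply, map_add, h2 _ (k1 v), k2 _ (h1 v)]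
  abel

theorem QW_pow {p : ℕ} [CharP F p] {W : Submodule F V} {s : SLV F V} (hs : s ∈ QW W) : s ^ p = 1 := by
  have key : ∀ n : ℕ, ∀ v, ((s ^ n : SLV F V) : V ≃ₗ[F] V) v = v + n • ((s : V ≃ₗ[F] V) v - v) := by
    intro n
    induction n with
    | zero => intro v; simp
    | succ n ih =>
      intro v
      rw [pow_succ, coe_mul_apply, ih]
      have h1 : (s : V ≃ₗ[F] V) ((s : V ≃ₗ[F] V) v) - (s : V ≃ₗ[F] V) v = (s : V ≃ₗ[F] V) v - v := by
        have h2 := hs.2 _ (hs.1 v)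
        rwa [map_sub] at h2
      rw [h1, succ_nsmul]
      abel
  apply SLV.ext
  intro v
  rw [key, coe_one_apply, ← Nat.cast_smul_eq_nsmul F, CharP.cast_eq_zero, zero_smul, add_zero]

end rad

/-! ### frames -/

section frame

variable {F V G Ω : Type} [Field F] [AddCommGroup V] [Module F V] [Group G] [MulAction G Ω]

/-- the environment together with the description of `N` as `SL(V)` modulo scalars -/
structure Frame (Ω : Type) {F V G : Type} [Field F] [AddCommGroup V] [Module F V] [Group G] [MulAction G Ω]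
    (N : Subgroup G) (κ : SLV F V →* G) : Prop where
  env : Env G Ω N
  range : κ.range = N
  ker : ∀ s : SLV F V, κ s = 1 ↔ ∃ c : F, ∀ v : V, (s : V ≃ₗ[F] V) v = c • v

/-- `f` lifts `x` -/
def Lifts (κ : SLV F V →* G) (x : G) (f : V ≃+ V) : Prop :=
  ∀ s s' : SLV F V, (∀ v, (s' : V ≃ₗ[F] V) (f v) = f ((s : V ≃ₗ[F] V) v)) → x * κ s * x⁻¹ = κ s'

/-- `f` is semilinear -/
def Semi (F : Type) {V : Type} [Field F] [AddCommGroup V] [Module F V] (f : V ≃+ V) : Prop :=
  ∃ σ : F ≃+* F, ∀ (c : F) (v : V), f (c • v) = σ c • f v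

theorem lifts_lin {κ : SLV F V →* G} {x : G} {a : V ≃ₗ[F] V} :
    Lifts κ x a.toAddEquiv ↔ ∀ s : SLV F V, x * κ s * x⁻¹ = κ (cj a s) := by
  constructor
  · intro h s
    exact h s _ fun v => cj_apply a s v
  · intro h s s' hs
    rw [h]
    congr 1
    exact cj_eq hs

/-- a minimal cover of `Ω` by elements `x i` of pairwise different prime orders `r i` with commuting linear lifts `a i` -/
structure LinCov (Ω : Type) {F V G ι : Type} [Field F] [AddCommGroup V] [Module F V] [Group G] [MulAction G Ω]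
    (N : Subgroup G) (κ : SLV F V →* G) (x : ι → G) (r : ι → ℕ) (a : ι → V ≃ₗ[F] V) : Prop where
  fr : Frame Ω N κ
  pf : PF x r
  cov : Cov Ω x
  min : CovMin Ω x
  lift : ∀ (i : ι) (s : SLV F V), x i * κ s * (x i)⁻¹ = κ (cj (a i) s)
  comm : ∀ i j, a i * a j = a j * a i

end frame

end Cfsg.Agent.H202.RC
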