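import Mathlib

/-!
# The field generated by one linear map with irreducible minimal polynomial; primary decomposition
-/

set_option autoImplicit false

namespace Cfsg.Agent.H202.RC

open Module Polynomial

/-- the field generated by `b` -/
theorem irr_field {F V : Type} [Field F] [Finite F] [AddCommGroup V] [Module F V] [Module.Finite F V]
    (b : V →ₗ[F] V) (hb : Irreducible (minpoly F b)) :
    ∃ (L : Type) (_ : Field L) (_ : Finite L) (_ : Algebra F L) (_ : Module L V) (_ : IsScalarTower F L V) (θ : L),
      (∀ v, b v = θ • v) ∧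
      (∀ g : V →ₗ[F] V, (∀ v, g (b v) = b (g v)) → ∀ (c : L) (v : V), g (c • v) = c • g v) ∧
      (∀ W : Submodule F V, (∀ w ∈ W, b w ∈ W) → ∀ (c : L), ∀ w ∈ W, c • w ∈ W) := by
  classical
  let A : Subalgebra F (Module.End F V) := Algebra.adjoin F {b}
  have hs : ∀ x ∈ ({b} : Set (Module.End F V)), ∀ y ∈ ({b} : Set (Module.End F V)), x * y = y * x := by
    rintro x rfl y rfl; rfl
  let cr : CommRing A := Algebra.adjoinCommRingOfComm F hs
  have hfinV : Finite V := Module.finite_of_finite F
  have hfinE : Finite (Module.End F V) := DFunLike.finite _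
  have hfinA : Finite A := Subtype.finite
  have hbA : b ∈ A := Algebra.subset_adjoin rfl
  have hpoly : ∀ c ∈ A, ∃ P : F[X], aeval b P = c := by
    intro c hc
    have h1 : c ∈ (Algebra.adjoin F {b} : Subalgebra F (Module.End F V)) := hc
    rw [Algebra.adjoin_singleton_eq_range_aeval] at h1
    exact h1
  have hmem : ∀ P : F[X], aeval b P ∈ A := by
    intro P
    change _ ∈ (Algebra.adjoin F {b} : Subalgebra F (Module.End F V))
    rw [Algebra.adjoin_singleton_eq_range_aeval]
    exact ⟨P, rfl⟩
  have hinv : ∀ c : A, (c : Module.End F V) ≠ 0 → ∃ d : Module.End F V, d ∈ A ∧ d * (c : Module.End F V) = 1 := by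
    intro c hc
    obtain ⟨P, hP⟩ := hpoly c c.2
    have h1 : ¬ minpoly F b ∣ P := by
      intro hd
      apply hc
      rw [← hP]
      obtain ⟨Q, rfl⟩ := hd
      rw [map_mul, minpoly.aeval, zero_mul]
    have h2 : IsCoprime (minpoly F b) P := (hb.coprime_iff_not_dvd).2 h1
    obtain ⟨u, w, huw⟩ := h2
    refine ⟨aeval b w, hmem w, ?_⟩
    rw [← hP, ← map_mul]
    have h3 := congrArg (aeval b) huw
    rw [map_add, map_mul, minpoly.aeval, mul_zero, zero_add, map_one] at h3
    exact h3
  have hnt : Nontrivial V := by
    by_contra hno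
    rw [not_nontrivial_iff_subsingleton] at hno
    apply hb.1
    have h1 : (1 : Module.End F V) = 0 := Subsingleton.elim _ _
    have h2 : minpoly F b ∣ 1 := minpoly.dvd F b (by rw [map_one, h1])
    exact isUnit_of_dvd_one h2
  obtain ⟨v₀, hv₀⟩ := exists_ne (0 : V)
  have hntA : Nontrivial A := ⟨⟨0, 1, fun h => by
    have h1 := congrArg (fun f : A => (f : Module.End F V) v₀) h
    exact hv₀ h1.symm⟩⟩
  have hnz : NoZeroDivisors A := ⟨by
    intro c d hcd
    by_cases hc : (c : Module.End F V) = 0
    · left
      exact Subtype.ext hc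
    · right
      obtain ⟨e, -, he⟩ := hinv c hc
      apply Subtype.ext
      have h1 : (c : Module.End F V) * (d : Module.End F V) = 0 := congrArg Subtype.val hcd
      calc (d : Module.End F V) = (e * (c : Module.End F V)) * (d : Module.End F V) := by rw [he, one_mul]
        _ = 0 := by rw [mul_assoc, h1, mul_zero]⟩
  have hdom : IsDomain A := NoZeroDivisors.to_isDomain A
  have : Fintype A := Fintype.ofFinite A
  let fld : Field A := Fintype.fieldOfDomain A
  refine ⟨A, fld, hfinA, Subalgebra.algebra A, Subalgebra.moduleLeft A, ⟨fun c b v => rfl⟩, ⟨b, hbA⟩,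
    fun v => rfl, ?_, ?_⟩
  · intro g hg c v
    have key : ∀ c ∈ (Algebra.adjoin F {b} : Subalgebra F (Module.End F V)), ∀ v, g (c v) = c (g v) := by
      intro c hc
      induction hc using Algebra.adjoin_induction with
      | mem x hx => rw [Set.mem_singleton_iff] at hx; subst hx; exact hg
      | algebraMap c => intro v; rw [Module.algebraMap_end_apply, Module.algebraMap_end_apply, map_smul]
      | add x y _ _ hx hy => intro v; rw [LinearMap.add_apply, LinearMap.add_apply, map_add, hx, hy]
      | mul x y _ _ hx hy => intro v; rw [Module.End.mul_apply, Module.End.mul_apply, hx, hy]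
    exact key c c.2 v
  · intro W hW c w hw
    have key : ∀ c ∈ (Algebra.adjoin F {b} : Subalgebra F (Module.End F V)), ∀ v ∈ W, c v ∈ W := by
      intro c hc
      induction hc using Algebra.adjoin_induction with
      | mem x hx => rw [Set.mem_singleton_iff] at hx; subst hx; exact hW
      | algebraMap c => intro v hv; rw [Module.algebraMap_end_apply]; exact W.smul_mem _ hv
      | add x y _ _ hx hy => intro v hv; exact W.add_mem (hx v hv) (hy v hv)
      | mul x y _ _ hx hy => intro v hv; exact hx _ (hy v hv)
    exact key c c.2 w hw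

/-- primary decomposition: reducible squarefree minimal polynomial -/
theorem exists_decomp {F V : Type} [Field F] [AddCommGroup V] [Module F V] [Module.Finite F V]
    (b : V →ₗ[F] V) {n : ℕ} (hn : (n : F) ≠ 0) {c : F} (hc0 : c ≠ 0) (hc : ∀ v, (b ^ n) v = c • v)
    (hb : ¬ Irreducible (minpoly F b)) (hV : ∃ v : V, v ≠ 0) :
    ∃ W W' : Submodule F V, IsCompl W W' ∧ W ≠ ⊥ ∧ W' ≠ ⊥ ∧
      ∀ g : V →ₗ[F] V, (∀ v, g (b v) = b (g v)) → (∀ w ∈ W, g w ∈ W) ∧ (∀ w ∈ W', g w ∈ W') := by
  classical
  have hint : IsIntegral F b := Algebra.IsIntegral.isIntegral b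
  have hm0 : minpoly F b ≠ 0 := minpoly.ne_zero hint
  have hX : minpoly F b ∣ X ^ n - C c := by
    apply minpoly.dvd
    ext v
    rw [map_sub, map_pow, aeval_X, aeval_C, LinearMap.sub_apply, hc, Module.algebraMap_end_apply, sub_self]
    rfl
  have hsep : (X ^ n - C c : F[X]).Separable := Polynomial.separable_X_pow_sub_C c hn hc0
  have hnu : ¬ IsUnit (minpoly F b) := by
    intro hu
    have h1 : aeval b (minpoly F b) = 0 := minpoly.aeval F b
    obtain ⟨v, hv⟩ := hV
    obtain ⟨u, hu'⟩ := hu.exists_right_inv
    have h2 := congrArg (aeval b) hu'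
    rw [map_mul, h1, zero_mul, map_one] at h2
    have h3 := congrArg (fun f : Module.End F V => f v) h2
    exact hv h3.symm
  obtain ⟨f, g, hf, hg, hfg⟩ : ∃ f g : F[X], ¬ IsUnit f ∧ ¬ IsUnit g ∧ minpoly F b = f * g := by
    by_contra hno
    push Not at hno
    apply hb
    refine ⟨hnu, fun {f g} hfg => ?_⟩
    by_contra hcon
    push Not at hcon
    exact hno f g hcon.1 hcon.2 hfg
  have hcop : IsCoprime f g := by
    have h1 : (f * g).Separable := by rw [← hfg]; exact hsep.of_dvd hX
    exact h1.isCoprime
  have hk : ∀ f g : F[X], ¬ IsUnit f → minpoly F b = f * g → LinearMap.ker (aeval b f) ≠ ⊥ := by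
    intro f g hf hfg hker
    have h1 : aeval b f * aeval b g = 0 := by rw [← map_mul, ← hfg, minpoly.aeval]
    have h2 : aeval b g = 0 := by
      ext v
      have h3 : aeval b f (aeval b g v) = 0 := congrArg (fun f : Module.End F V => f v) h1
      have h4 : aeval b g v ∈ LinearMap.ker (aeval b f) := h3
      rw [hker, Submodule.mem_bot] at h4
      exact h4
    have h3 := minpoly.dvd F b h2
    apply hf
    obtain ⟨u, hu⟩ := h3
    have hg0 : g ≠ 0 := by rintro rfl; rw [mul_zero] at hfg; exact hm0 hfg
    have h4 : f * u * g = 1 * g := by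
      rw [one_mul]
      conv_rhs => rw [hu, hfg]
      ring
    have h5 := mul_right_cancel₀ hg0 h4
    exact IsUnit.of_mul_eq_one u h5
  refine ⟨LinearMap.ker (aeval b f), LinearMap.ker (aeval b g), ?_, hk f g hf hfg, hk g f hg (by rw [hfg, mul_comm]), ?_⟩
  · constructor
    · exact Polynomial.disjoint_ker_aeval_of_isCoprime b hcop
    · rw [codisjoint_iff, Polynomial.sup_ker_aeval_eq_ker_aeval_mul_of_coprime b hcop, ← hfg, minpoly.aeval]
      exact LinearMap.ker_zero
  · intro u hu
    have key : ∀ (P : F[X]) (v : V), u (aeval b P v) = aeval b P (u v) := by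
      intro P
      induction P using Polynomial.induction_on' with
      | add p q hp hq => intro v; rw [map_add, LinearMap.add_apply, LinearMap.add_apply, map_add, hp, hq]
      | monomial k c =>
        intro v
        rw [aeval_monomial, Module.End.mul_apply, Module.End.mul_apply, Module.algebraMap_end_apply,
          Module.algebraMap_end_apply, map_smul]
        congr 1
        induction k generalizing v with
        | zero => rfl
        | succ k ih => rw [pow_succ, Module.End.mul_apply, Module.End.mul_apply, ih, hu]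
    constructor
    · intro w hw
      rw [LinearMap.mem_ker] at hw ⊢
      rw [← key, hw, map_zero]
    · intro w hw
      rw [LinearMap.mem_ker] at hw ⊢
      rw [← key, hw, map_zero]

end Cfsg.Agent.H202.RC
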