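import Cfsg.Agent.H202.RC.LinDec2
import Cfsg.Agent.H202.RC.LinField

/-!
# Case analysis for linear covers: the end
-/

set_option autoImplicit false
set_option linter.unusedSectionVars false
open Cfsg

namespace Cfsg.Agent.H202.RC

open MulAction Cfsg.Agent.H106.RC Module

section lin

variable {F V G Ω ι : Type} [Field F] [Finite F] [AddCommGroup V] [Module F V] [Module.Finite F V] [Group G] [Finite G]
  [Finite Ω] [Nonempty Ω] [MulAction G Ω] [Finite ι] {N : Subgroup G} {κ : SLV F V →* G} {x : ι → G} {r : ι → ℕ}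
  {a : ι → V ≃ₗ[F] V} {W : Submodule F V}

/-- `no_ext` with the induction hypothesis -/
theorem ext_step (h : LinCov Ω N κ x r a) (hn : 3 ≤ finrank F V) (hne : ¬ (Nat.card F = 2 ∧ finrank F V = 4))
    (hIH : IH (Nat.card N)) {L : Type} [Field L] [Finite L] [Algebra F L] [Module L V] [IsScalarTower F L V]
    (hl : 2 ≤ finrank F L) (hm : 2 ≤ finrank L V) (hlin : ∀ (i : ι) (c : L) (v : V), a i (c • v) = c • a i v)
    (hns : ∃ i, ¬ ∃ c : L, ∀ v, a i v = c • v)
    (hsp : Nat.card F = 3 → finrank F V = 4 → ∃ i₀, ∀ i, i ≠ i₀ → ∃ c : L, ∀ v, a i v = c • v) : False := by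
  classical
  have hFL : FiniteDimensional F L := Module.Finite.of_finite
  have hmul : finrank F L * finrank L V = finrank F V := Module.finrank_mul_finrank F L V
  have hcardL : Nat.card L = Nat.card F ^ finrank F L := Module.natCard_eq_pow_finrank
  have hq2 : 2 ≤ Nat.card F := Finite.one_lt_card
  have : Fintype L := Fintype.ofFinite L
  obtain ⟨hS, hSn, hMperf, π, hπ, hπk⟩ := H338.RC.exists_pi (L := L) h.fr hm (H338.RC.four_le (F := F) hl)
  refine H338.RC.no_ext (L := L) h hl hm hne hlin hns ?_
  by_cases hexc : Exc (Matrix.ProjectiveSpecialLinearGroup (Fin (finrank L V)) L)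
  · right
    have h1 := psl_exc hm hexc
    rw [← Nat.card_eq_fintype_card, hcardL] at h1
    have hq3 : Nat.card F ≤ 3 := by
      by_contra hcon
      have h2 : 4 ^ 2 ≤ Nat.card F ^ finrank F L :=
        (Nat.pow_le_pow_left (by omega : 4 ≤ Nat.card F) 2).trans (Nat.pow_le_pow_right (by omega) hl)
      omega
    have h2d : finrank F L ≤ 3 := by
      by_contra hcon
      have h2 : 2 ^ 4 ≤ Nat.card F ^ finrank F L :=
        (Nat.pow_le_pow_left hq2 4).trans (Nat.pow_le_pow_right (by omega) (by omega))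
      omega
    have h3 : Nat.card F = 3 ∧ finrank F V = 4 := by
      rw [← hmul] at hne ⊢
      generalize Nat.card F = q at *
      generalize finrank F L = l at *
      generalize finrank L V = m at *
      interval_cases q <;> interval_cases l <;> simp at h1 hne ⊢ <;> omega
    exact hsp h3.1 h3.2
  · left
    refine hIH.use (S := N) (MulEquiv.refl N) (H338.RC.ML_le (L := L) h.fr) (H338.RC.ML_ne h.fr hl (by omega)) π hπ hS hSn
      ?_ hexc
    left
    refine ⟨L, inferInstance, inferInstance, finrank L V, hm, fun _ => ?_, ⟨MulEquiv.refl _⟩⟩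
    rw [← Nat.card_eq_fintype_card]
    exact H338.RC.four_le (F := F) hl

/-- the field generated by `a i` is proper -/
theorem two_le_field (h : LinCov Ω N κ x r a) {i : ι} {L : Type} [Field L] [Finite L] [Algebra F L] [Module L V]
    [IsScalarTower F L V] {θ : L} (hθ : ∀ v, a i v = θ • v) : 2 ≤ finrank F L := by
  have hFL : FiniteDimensional F L := Module.Finite.of_finite
  by_contra hcon
  have h0 : 0 < finrank F L := finrank_pos
  have h1 : finrank F L = 1 := by omega
  obtain ⟨c, hc⟩ := (finrank_eq_one_iff_of_nonzero' (1 : L) one_ne_zero).1 h1 θ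
  apply h.not_scal i
  refine ⟨c, fun v => ?_⟩
  rw [hθ, ← hc, smul_assoc, one_smul]

/-- dimension over the field generated by `a i` in the presence of a decomposition -/
theorem two_le_of_dec {b : V →ₗ[F] V} {L : Type} [Field L] [Finite L] [Algebra F L] [Module L V] [IsScalarTower F L V]
    {hinv : ∀ W : Submodule F V, (∀ w ∈ W, b w ∈ W) → ∀ (c : L), ∀ w ∈ W, c • w ∈ W} {W' : Submodule F V}
    (hc : IsCompl W W') (hW : ∀ w ∈ W, b w ∈ W) (hW0 : W ≠ ⊥) (hW0' : W' ≠ ⊥) :
    2 ≤ finrank L V := by
  have hLV : Module.Finite L V := Module.Finite.of_restrictScalars_finite F L V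
  obtain ⟨w, hw, hw0⟩ := Submodule.exists_mem_ne_zero_of_ne_bot hW0
  obtain ⟨w', hw', hw0'⟩ := Submodule.exists_mem_ne_zero_of_ne_bot hW0'
  have hnt : Nontrivial V := ⟨⟨w, 0, hw0⟩⟩
  have h0 : 0 < finrank L V := finrank_pos
  by_contra hcon
  have h1 : finrank L V = 1 := by omega
  obtain ⟨c, hc'⟩ := (finrank_eq_one_iff_of_nonzero' w hw0).1 h1 w'
  have h2 : w' ∈ W := by rw [← hc']; exact hinv W hW c w hw
  have h3 : w' ∈ W ⊓ W' := ⟨h2, hw'⟩
  rw [hc.inf_eq_bot, Submodule.mem_bot] at h3
  exact hw0' h3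

/-- **No decomposition, `q = 2`.** -/
theorem dec_even (h : LinCov Ω N κ x r a) (hn : 3 ≤ finrank F V) (hne : ¬ (Nat.card F = 2 ∧ finrank F V = 4))
    (hIH : IH (Nat.card N)) (hS : SumP F a) (hq : Nat.card F = 2)
    {W' : Submodule F V} (hc : IsCompl W W') (hW : ∀ i, ∀ w ∈ W, a i w ∈ W) (hW' : ∀ i, ∀ w ∈ W', a i w ∈ W')
    (hW0 : W ≠ ⊥) (hW0' : W' ≠ ⊥) : False := by
  classical
  by_cases h3 : ∃ i, r i = 3
  swap
  · exact dec_two h hn hS hq hc hW hW' hW0 hW0' fun i hi => absurd ⟨i, hi⟩ h3
  obtain ⟨i, hi⟩ := h3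
  have h2 : ∀ v : V, v + v = 0 := by
    intro v
    have h1 : ((2 : ℕ) : F) = 0 := by
      have := Fintype.ofFinite F
      have h2 : (Fintype.card F : F) = 0 := FiniteField.cast_card_eq_zero F
      rwa [← Nat.card_eq_fintype_card, hq] at h2
    rw [← two_smul F v]
    have h2 : (2 : F) = 0 := by exact_mod_cast h1
    rw [h2, zero_smul]
  have h3 : ∀ v, a i (a i (a i v)) = v := by
    intro v
    have := pow_two' h hn hq i v
    rw [hi] at this
    exact this
  let C : Submodule F V := fx a ⊤ i
  let T : V →ₗ[F] V := (a i : V →ₗ[F] V) ∘ₗ (a i : V →ₗ[F] V) + (a i : V →ₗ[F] V) + LinearMap.id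
  have hT : ∀ v, T v = a i (a i v) + a i v + v := fun _ => rfl
  let D : Submodule F V := LinearMap.ker T
  have hTC : ∀ v, T v ∈ C := by
    intro v
    refine ⟨trivial, ?_⟩
    rw [hT, map_add, map_add, h3]
    abel
  have hCT : ∀ v ∈ C, T v = v := by
    rintro v ⟨-, hv⟩
    rw [hT, hv, hv, h2, zero_add]
  have hCD : IsCompl C D := by
    constructor
    · rw [Submodule.disjoint_def]
      intro v hv hv'
      rw [← hCT v hv]
      exact hv'
    · rw [codisjoint_iff, eq_top_iff]
      intro v _
      rw [Submodule.mem_sup]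
      refine ⟨T v, hTC v, v - T v, ?_, by abel⟩
      change T (v - T v) = 0
      rw [map_sub, hCT _ (hTC v), sub_self]
  have hDinv : ∀ j, ∀ w ∈ D, a j w ∈ D := by
    intro j w hw
    change T (a j w) = 0
    have h4 : T (a j w) = a j (T w) := by
      rw [hT, hT, map_add, map_add, h.acomm i j, h.acomm i j]
    rw [h4, show T w = 0 from hw, map_zero]
  have hCinv : ∀ j, ∀ w ∈ C, a j w ∈ C := fx_inv h (W := ⊤) (fun _ _ _ => Submodule.mem_top) i
  have hD0 : D ≠ ⊥ := by
    intro h0
    apply h.not_scal i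
    refine ⟨1, fun v => ?_⟩
    have h5 : v - T v ∈ D := by
      change T (v - T v) = 0
      rw [map_sub, hCT _ (hTC v), sub_self]
    rw [h0, Submodule.mem_bot, sub_eq_zero] at h5
    rw [one_smul]
    have := hTC v
    rw [← h5] at this
    exact this.2
  by_cases hC0 : C = ⊥
  swap
  · exact dec_two h hn hS hq hCD hCinv hDinv hC0 hD0 fun j hj w hw => by
      rw [h.pf.inj (hj.trans hi.symm)]
      exact hw.2
  -- the minimal polynomial is irreducible
  have hirr : Irreducible (minpoly F (a i : V →ₗ[F] V)) := by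
    have hint : IsIntegral F (a i : V →ₗ[F] V) := Algebra.IsIntegral.isIntegral _
    apply Polynomial.irreducible_of_degree_le_three_of_not_isRoot
    · rw [Finset.mem_Icc]
      have hntV : Nontrivial V := Module.nontrivial_of_finrank_pos (R := F) (by omega)
      refine ⟨minpoly.natDegree_pos hint, ?_⟩
      have h5 : minpoly F (a i : V →ₗ[F] V) ∣ (Polynomial.X ^ 3 - Polynomial.C 1) := by
        apply minpoly.dvd
        ext v
        rw [map_sub, map_pow, Polynomial.aeval_X, Polynomial.aeval_C, map_one, LinearMap.sub_apply]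
        change a i (a i (a i v)) - v = 0
        rw [h3, sub_self]
      have h6 := Polynomial.natDegree_le_of_dvd h5 (Polynomial.X_pow_sub_C_ne_zero (by norm_num) 1)
      rwa [Polynomial.natDegree_X_pow_sub_C] at h6
    · intro c hc
      obtain ⟨v, hv⟩ := (Module.End.hasEigenvalue_of_isRoot hc).exists_hasEigenvector
      have h5 : a i v = c • v := hv.apply_eq_smul
      have hv0 : v ≠ 0 := hv.2
      have hc0 : c ≠ 0 := by
        rintro rfl
        rw [zero_smul] at h5
        exact hv0 ((a i).map_eq_zero_iff.1 h5)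
      rw [scal_two hq c hc0, one_smul] at h5
      have h6 : v ∈ C := ⟨trivial, h5⟩
      rw [hC0, Submodule.mem_bot] at h6
      exact hv0 h6
  obtain ⟨L, _, _, _, _, _, θ, hθ, hcom, hinv⟩ := irr_field _ hirr
  have hθ' : ∀ v, a i v = θ • v := hθ
  have hlin : ∀ (j : ι) (c : L) (v : V), a j (c • v) = c • a j v := fun j c v =>
    hcom (a j : V →ₗ[F] V) (fun v => h.acomm j i v) c v
  have hFL : FiniteDimensional F L := Module.Finite.of_finite
  have hl := two_le_field h hθ'
  have hnt : Nontrivial V := Module.nontrivial_of_finrank_pos (R := F) (by omega)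
  obtain ⟨v₀, hv₀⟩ := exists_ne (0 : V)
  have hLV : Module.Finite L V := Module.Finite.of_restrictScalars_finite F L V
  have hmul : finrank F L * finrank L V = finrank F V := Module.finrank_mul_finrank F L V
  have hm := two_le_of_dec (L := L) (hinv := hinv) hc (hW i) hW0 hW0'
  -- `[L : F] = 2`
  have hDtop : ∀ v, T v = 0 := by
    intro v
    have h5 : D = ⊤ := by
      have := hCD.sup_eq_top
      rwa [hC0, bot_sup_eq] at this
    have h6 : v ∈ D := by rw [h5]; trivial
    exact h6
  have hL2 : finrank F L = 2 := by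
    let f : L →ₗ[F] V := (LinearMap.toSpanSingleton L V v₀).restrictScalars F
    have hf : Function.Injective f := by
      rw [← LinearMap.ker_eq_bot, eq_bot_iff]
      intro c hc'
      have h5 : c • v₀ = 0 := hc'
      exact (smul_eq_zero.1 h5).resolve_right hv₀
    let W₀ : Submodule F V := Submodule.span F {v₀, a i v₀}
    have hW₀ : ∀ w ∈ W₀, a i w ∈ W₀ := by
      intro w hw
      obtain ⟨c, d, rfl⟩ := Submodule.mem_span_pair.1 hw
      have h5 : a i (a i v₀) = a i v₀ + v₀ := by
        have h6 := hDtop v₀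
        rw [hT] at h6
        have h7 : a i (a i v₀) + (a i v₀ + v₀) = 0 := by rw [← h6]; abel
        have h8 := h2 (a i v₀ + v₀)
        calc a i (a i v₀) = a i (a i v₀) + ((a i v₀ + v₀) + (a i v₀ + v₀)) := by rw [h8, add_zero]
          _ = (a i (a i v₀) + (a i v₀ + v₀)) + (a i v₀ + v₀) := by abel
          _ = a i v₀ + v₀ := by rw [h7, zero_add]
      rw [map_add, map_smul, map_smul, h5]
      exact Submodule.mem_span_pair.2 ⟨d, c + d, by module⟩
    have hr : LinearMap.range f ≤ W₀ := by
      rintro _ ⟨c, rfl⟩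
      exact hinv W₀ hW₀ c v₀ (Submodule.subset_span (by simp))
    have h5 : finrank F W₀ ≤ 2 := by
      have := finrank_span_finset_le_card (R := F) ({v₀, a i v₀} : Finset V)
      rw [Finset.coe_pair] at this
      exact this.trans Finset.card_le_two
    have h6 := Submodule.finrank_mono hr
    rw [LinearMap.finrank_range_of_inj hf] at h6
    omega
  have hcardL : Nat.card L = 4 := by
    rw [Module.natCard_eq_pow_finrank (K := F) (V := L), hL2, hq]; norm_num
  refine ext_step h hn hne hIH hl hm hlin ?_ (fun h' => by omega)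
  by_contra hcon
  push Not at hcon
  obtain ⟨j, hj⟩ := h.two i
  apply hj
  apply h.pf.inj
  rw [hi]
  obtain ⟨c, hc'⟩ := hcon j
  have hc0 : c ≠ 0 := by
    rintro rfl
    have h5 := hc' v₀
    rw [zero_smul] at h5
    exact hv₀ ((a j).map_eq_zero_iff.1 h5)
  have hc3 : c ^ 3 = 1 := by
    have : Fintype L := Fintype.ofFinite L
    have h5 := FiniteField.pow_card_sub_one_eq_one c hc0
    rwa [← Nat.card_eq_fintype_card, hcardL] at h5
  have hcr : c ^ r j = 1 := by
    have h5 : ∀ (k : ℕ) (v : V), (a j ^ k) v = c ^ k • v := by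
      intro k
      induction k with
      | zero => intro v; simp
      | succ k ih =>
        intro v
        rw [pow_succ', LinearEquiv.mul_apply, ih, hc', smul_smul, pow_succ']
    have h6 := pow_two' h hn hq j v₀
    rw [h5, ← sub_eq_zero] at h6
    have h7 : (c ^ r j - 1) • v₀ = 0 := by rw [sub_smul, one_smul, h6]
    exact sub_eq_zero.1 ((smul_eq_zero.1 h7).resolve_right hv₀)
  by_contra h3'
  have h5 := Nat.dvd_gcd (orderOf_dvd_of_pow_eq_one hcr) (orderOf_dvd_of_pow_eq_one hc3)
  rw [(Nat.coprime_primes (h.pf.prime j) Nat.prime_three).2 h3', Nat.dvd_one, orderOf_eq_one_iff] at h5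
  exact h.not_scal j ⟨1, fun v => by rw [hc', h5, one_smul, one_smul]⟩

/-- **No decomposition.** -/
theorem no_dec (h : LinCov Ω N κ x r a) (hn : 3 ≤ finrank F V) (hne : ¬ (Nat.card F = 2 ∧ finrank F V = 4))
    (hIH : IH (Nat.card N)) (hS : SumP F a)
    {W' : Submodule F V} (hc : IsCompl W W') (hW : ∀ i, ∀ w ∈ W, a i w ∈ W) (hW' : ∀ i, ∀ w ∈ W', a i w ∈ W')
    (hW0 : W ≠ ⊥) (hW0' : W' ≠ ⊥) : False := by
  have hq2 : 2 ≤ Nat.card F := Finite.one_lt_card
  by_cases hq : Nat.card F = 2
  · exact dec_even h hn hne hIH hS hq hc hW hW' hW0 hW0'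
  · exact dec_odd h hn hS (by omega) hc hW hW' hW0 hW0'

/-- box CB for the given cover -/
def PrimeP (F : Type) {V ι : Type} [Field F] [AddCommGroup V] [Module F V] (a : ι → V ≃ₗ[F] V) : Prop :=
  (finrank F V).Prime → 3 ≤ finrank F V →
    (∀ i, ∀ W : Submodule F V, (∀ w ∈ W, a i w ∈ W) → W = ⊥ ∨ W = ⊤) → False

/-- in the situation of a field `E` with `dim_E V = 1` and `[E : F]` prime every `a i` is irreducible -/
theorem irr_of_prime (h : LinCov Ω N κ x r a) {E : Type} [Field E] [Finite E] [Algebra F E] [Module E V]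
    [IsScalarTower F E V] (hE : finrank E V = 1) {e : E} {i : ι} (he : ∀ v, a i v = e • v) (hp : (finrank F E).Prime)
    (W : Submodule F V) (hW : ∀ w ∈ W, a i w ∈ W) : W = ⊥ ∨ W = ⊤ := by
  classical
  have hFE : FiniteDimensional F E := Module.Finite.of_finite
  have hso : IsSimpleOrder (Subalgebra F E) := Subalgebra.isSimpleOrder_of_finrank_prime F E hp
  have hA : Algebra.adjoin F {e} = ⊤ := by
    rcases hso.eq_bot_or_eq_top (Algebra.adjoin F {e}) with h1 | h1
    · exfalso
      have h2 : e ∈ (⊥ : Subalgebra F E) := by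
        rw [← h1]; exact Algebra.subset_adjoin rfl
      obtain ⟨c, hc⟩ := Algebra.mem_bot.1 h2
      exact h.not_scal i ⟨c, fun v => by rw [he, ← hc, algebraMap_smul]⟩
    · exact h1
  have key : ∀ c : E, ∀ w ∈ W, c • w ∈ W := by
    intro c
    have hc : c ∈ Algebra.adjoin F {e} := by rw [hA]; trivial
    induction hc using Algebra.adjoin_induction with
    | mem y hy => rw [Set.mem_singleton_iff] at hy; subst hy; intro w hw; rw [← he]; exact hW w hw
    | algebraMap c => intro w hw; rw [algebraMap_smul]; exact W.smul_mem _ hw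
    | add y z _ _ hy hz => intro w hw; rw [add_smul]; exact W.add_mem (hy w hw) (hz w hw)
    | mul y z _ _ hy hz => intro w hw; rw [mul_smul]; exact hy _ (hz w hw)
  by_cases h0 : W = ⊥
  · exact Or.inl h0
  · right
    obtain ⟨w, hw, hw0⟩ := Submodule.exists_mem_ne_zero_of_ne_bot h0
    rw [eq_top_iff]
    intro v _
    obtain ⟨c, hc⟩ := (finrank_eq_one_iff_of_nonzero' w hw0).1 hE v
    rw [← hc]
    exact key c w hw

/-- order of `a i` generating a quadratic extension -/
theorem dvd_quad (h : LinCov Ω N κ x r a) (hn : 3 ≤ finrank F V) {L : Type} [Field L] [Finite L] [Algebra F L]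
    [Module L V] [IsScalarTower F L V] (hL : finrank F L = 2) {θ : L} {i : ι} (hθ : ∀ v, a i v = θ • v) :
    r i ∣ Nat.card F + 1 := by
  have hnt : Nontrivial V := Module.nontrivial_of_finrank_pos (R := F) (by omega)
  obtain ⟨v₀, hv₀⟩ := exists_ne (0 : V)
  have hFL : FiniteDimensional F L := Module.Finite.of_finite
  let W₀ : Submodule F V := (Submodule.span L {v₀}).restrictScalars F
  have hW₀ : ∀ w ∈ W₀, a i w ∈ W₀ := by
    intro w hw
    rw [hθ]
    exact (Submodule.span L {v₀}).smul_mem θ hw
  have hd : finrank F W₀ = 2 := by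
    have h1 := Module.finrank_mul_finrank F L (Submodule.span L {v₀})
    rw [finrank_span_singleton hv₀, mul_one, hL] at h1
    exact h1.symm
  obtain ⟨c, hc⟩ := H338.RC.pow_scalar h (by omega) i
  let f : W₀ →ₗ[F] W₀ := (a i : V →ₗ[F] V).restrict hW₀
  have hf : ∀ w : W₀, ((f w : W₀) : V) = a i w := fun _ => rfl
  have hfk : ∀ (k : ℕ) (w : W₀), (((f ^ k) w : W₀) : V) = (a i ^ k) w := by
    intro k
    induction k with
    | zero => intro w; rfl
    | succ k ih =>
      intro w
      rw [pow_succ', pow_succ', Module.End.mul_apply, hf, ih]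
      rfl
  refine dvd_two hd f ?_ (h.pf.prime i) (c := c) ?_ ?_
  · intro w w' e
    apply Subtype.ext
    exact (a i).injective (congrArg Subtype.val e)
  · intro w
    apply Subtype.ext
    rw [hfk, hc]
    rfl
  · intro w hw d e
    have h1 : a i w = d • (w : V) := congrArg Subtype.val e
    have hw' : (w : V) ≠ 0 := fun h0 => hw (Subtype.ext h0)
    have h2 : (θ - algebraMap F L d) • (w : V) = 0 := by
      rw [sub_smul, algebraMap_smul, ← hθ, h1, sub_self]
    have h3 := sub_eq_zero.1 ((smul_eq_zero.1 h2).resolve_right hw')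
    exact h.not_scal i ⟨d, fun v => by rw [hθ, h3, algebraMap_smul]⟩

/-- the field generated by `a i` has dimension at least two in `V` unless `V` is irreducible -/
theorem two_le_of_red {b : V →ₗ[F] V} {L : Type} [Field L] [Finite L] [Algebra F L] [Module L V] [IsScalarTower F L V]
    (hinv : ∀ W : Submodule F V, (∀ w ∈ W, b w ∈ W) → ∀ (c : L), ∀ w ∈ W, c • w ∈ W)
    (hW : ∀ w ∈ W, b w ∈ W) (hW0 : W ≠ ⊥) (hW1 : W ≠ ⊤) : 2 ≤ finrank L V := by
  have hLV : Module.Finite L V := Module.Finite.of_restrictScalars_finite F L V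
  obtain ⟨w, hw, hw0⟩ := Submodule.exists_mem_ne_zero_of_ne_bot hW0
  have hnt : Nontrivial V := ⟨⟨w, 0, hw0⟩⟩
  have h0 : 0 < finrank L V := finrank_pos
  by_contra hcon
  have h1 : finrank L V = 1 := by omega
  apply hW1
  rw [eq_top_iff]
  intro v _
  obtain ⟨c, hc'⟩ := (finrank_eq_one_iff_of_nonzero' w hw0).1 h1 v
  rw [← hc']; exact hinv W hW c w hw

/-- **The linear theorem.** -/
theorem no_lin_of (h : LinCov Ω N κ x r a) (hn : 3 ≤ finrank F V) (hne : ¬ (Nat.card F = 2 ∧ finrank F V = 4))
    (hIH : IH (Nat.card N)) (hS : SumP F a) (hP : PrimeP F a) : False := by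
  classical
  have hnt : Nontrivial V := Module.nontrivial_of_finrank_pos (R := F) (by omega)
  obtain ⟨v₀, hv₀⟩ := exists_ne (0 : V)
  by_cases hjirr : ∀ W : Submodule F V, (∀ i, ∀ w ∈ W, a i w ∈ W) → W = ⊥ ∨ W = ⊤
  · by_cases hp : (finrank F V).Prime
    · obtain ⟨E, _, _, _, _, _, e, hE, he⟩ := H338.RC.exists_field h.comm hv₀ hjirr
      have hFE : FiniteDimensional F E := Module.Finite.of_finite
      have hEV : Module.Finite E V := Module.finite_of_finrank_pos (by omega)
      have hnE : finrank F E = finrank F V := by rw [← Module.finrank_mul_finrank F E V, hE, mul_one]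
      exact hP hp hn fun i W hW => irr_of_prime h hE (he i) (by rw [hnE]; exact hp) W hW
    · exact H338.RC.no_irr_comp h hn hne hp hIH hjirr
  push Not at hjirr
  obtain ⟨W₁, hW₁, hW₁0, hW₁1⟩ := hjirr
  -- the characteristic
  have hcast : ∀ i, r i ≠ ringChar F → ((r i : ℕ) : F) ≠ 0 := by
    intro i hi h0
    have h1 := (CharP.cast_eq_zero_iff F (ringChar F) (r i)).1 h0
    have h2 := (Nat.prime_dvd_prime_iff_eq (CharP.char_is_prime F (ringChar F)) (h.pf.prime i)).1 h1
    exact hi h2.symm
  -- reducible minimal polynomials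
  have hred : ∀ i, r i ≠ ringChar F → Irreducible (minpoly F (a i : V →ₗ[F] V)) := by
    intro i hi
    by_contra hirr
    obtain ⟨c, hc⟩ := H338.RC.pow_scalar h (by omega) i
    have hpw : ∀ (k : ℕ) (v : V), ((a i : V →ₗ[F] V) ^ k) v = (a i ^ k) v := by
      intro k
      induction k with
      | zero => intro v; rfl
      | succ k ih =>
        intro v
        rw [pow_succ', pow_succ', Module.End.mul_apply, ih]
        rfl
    have hc0 : c ≠ 0 := by
      rintro rfl
      have h1 := hc v₀
      rw [zero_smul] at h1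
      exact hv₀ ((a i ^ r i).map_eq_zero_iff.1 h1)
    obtain ⟨W, W', hcW, hW0, hW0', hinv⟩ := exists_decomp (a i : V →ₗ[F] V) (hcast i hi) hc0
      (fun v => by rw [hpw, hc]) hirr ⟨v₀, hv₀⟩
    exact no_dec h hn hne hIH hS hcW (fun j => (hinv (a j : V →ₗ[F] V) fun v => h.acomm j i v).1)
      (fun j => (hinv (a j : V →ₗ[F] V) fun v => h.acomm j i v).2) hW0 hW0'
  obtain ⟨i, hi⟩ := h.exists_ne (ringChar F)
  obtain ⟨L, _, _, _, _, _, θ, hθ, hcom, hinv⟩ := irr_field _ (hred i hi)
  have hθ' : ∀ v, a i v = θ • v := hθ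
  have hlin : ∀ (j : ι) (c : L) (v : V), a j (c • v) = c • a j v := fun j c v =>
    hcom (a j : V →ₗ[F] V) (fun v => h.acomm j i v) c v
  have hFL : FiniteDimensional F L := Module.Finite.of_finite
  have hLV : Module.Finite L V := Module.Finite.of_restrictScalars_finite F L V
  have hl := two_le_field h hθ'
  have hm := two_le_of_red hinv (hW₁ i) hW₁0 hW₁1
  by_cases hall : ∀ j, ∃ c : L, ∀ v, a j v = c • v
  · -- decomposition over `L`
    obtain ⟨C, hC⟩ := Submodule.exists_isCompl (Submodule.span L {v₀})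
    have hCF : IsCompl ((Submodule.span L {v₀}).restrictScalars F) (C.restrictScalars F) := by
      constructor
      · rw [Submodule.disjoint_def]
        intro v h1 h2
        exact (Submodule.disjoint_def.1 hC.disjoint) v h1 h2
      · rw [codisjoint_iff, eq_top_iff]
        intro v _
        have h1 : v ∈ Submodule.span L {v₀} ⊔ C := by rw [hC.sup_eq_top]; trivial
        obtain ⟨y, hy, z, hz, e⟩ := Submodule.mem_sup.1 h1
        exact Submodule.mem_sup.2 ⟨y, hy, z, hz, e⟩
    refine no_dec h hn hne hIH hS hCF ?_ ?_ ?_ ?_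
    · intro j w hw
      obtain ⟨c, hc⟩ := hall j
      rw [hc]
      exact (Submodule.span L {v₀}).smul_mem c hw
    · intro j w hw
      obtain ⟨c, hc⟩ := hall j
      rw [hc]
      exact C.smul_mem c hw
    · intro h0
      apply hv₀
      have h1 : v₀ ∈ (Submodule.span L {v₀}).restrictScalars F := Submodule.mem_span_singleton_self v₀
      rw [h0, Submodule.mem_bot] at h1
      exact h1
    · intro h0
      have h1 : C = ⊥ := (Submodule.restrictScalars_eq_bot_iff _ _ _).1 h0
      have h2 := hC.sup_eq_top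
      rw [h1, sup_bot_eq] at h2
      have h3 := finrank_span_singleton (K := L) hv₀
      rw [h2, finrank_top] at h3
      omega
  · push Not at hall
    obtain ⟨j₁, hj₁⟩ := hall
    refine ext_step h hn hne hIH hl hm hlin ⟨j₁, by push Not; exact hj₁⟩ ?_
    intro hq3 hn4
    have hmul : finrank F L * finrank L V = finrank F V := Module.finrank_mul_finrank F L V
    have hch : ringChar F = 3 := by
      have := Fintype.ofFinite F
      have h1 : (Fintype.card F : F) = 0 := FiniteField.cast_card_eq_zero F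
      rw [← Nat.card_eq_fintype_card, hq3] at h1
      have h2 := (CharP.cast_eq_zero_iff F (ringChar F) 3).1 (by exact_mod_cast h1)
      exact (Nat.prime_dvd_prime_iff_eq (CharP.char_is_prime F (ringChar F)) Nat.prime_three).1 h2
    have hquad : ∀ k, r k ≠ 3 → r k = 2 := by
      intro k hk
      obtain ⟨L', _, _, _, _, _, θ', hθk, -, hinvk⟩ := irr_field _ (hred k (by rw [hch]; exact hk))
      have hl' := two_le_field h (i := k) (θ := θ') hθk
      have hm' := two_le_of_red hinvk (hW₁ k) hW₁0 hW₁1
      have hFL' : FiniteDimensional F L' := Module.Finite.of_finite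
      have hLV' : Module.Finite L' V := Module.Finite.of_restrictScalars_finite F L' V
      have hmul' : finrank F L' * finrank L' V = finrank F V := Module.finrank_mul_finrank F L' V
      have h2 : finrank F L' = 2 := by
        rw [hn4] at hmul'
        have h3 : finrank F L' ≤ 2 := by
          by_contra hcon
          have : 3 * 2 ≤ finrank F L' * finrank L' V := Nat.mul_le_mul (by omega) hm'
          omega
        omega
      have h3 := dvd_quad h hn h2 (i := k) (θ := θ') hθk
      rw [hq3] at h3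
      exact pd_pow (k := 2) (h.pf.prime k) Nat.prime_two h3
    have hi2 : r i = 2 := hquad i (by rw [← hch]; exact hi)
    by_cases hex : ∃ j, r j = 3
    · obtain ⟨j, hj⟩ := hex
      refine ⟨j, fun k hk => ?_⟩
      have hk2 : r k = 2 := hquad k fun h' => hk (h.pf.inj (h'.trans hj.symm))
      have hki : k = i := h.pf.inj (hk2.trans hi2.symm)
      rw [hki]
      exact ⟨θ, hθ'⟩
    · refine ⟨i, fun k hk => ?_⟩
      have hk2 : r k = 2 := hquad k fun h' => hex ⟨k, h'⟩
      exact absurd (h.pf.inj (hk2.trans hi2.symm)) hk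

end lin

end Cfsg.Agent.H202.RC
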