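import Cfsg.Agent.H202.RC.Point
import Cfsg.Agent.H338.RC.IrrComp
import Cfsg.Agent.H991.RC.E22

/-!
# Case analysis for linear covers: decompositions
-/

set_option autoImplicit false
set_option linter.unusedSectionVars false
open Cfsg

namespace Cfsg.Agent.H202.RC

open MulAction Cfsg.Agent.H106.RC Module

section count

/-- a linear map of prime order modulo scalars without eigenvectors -/
theorem dvd_proj {F W : Type*} [Field F] [Finite F] [AddCommGroup W] [Module F W] [Module.Finite F W]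
    (f : W →ₗ[F] W) (hf : Function.Injective f) {r : ℕ} (hr : r.Prime) {c : F} (hc : ∀ w, (f ^ r) w = c • w)
    (heig : ∀ w, w ≠ 0 → ∀ d : F, f w ≠ d • w) : r ∣ Nat.card (Projectivization F W) := by
  classical
  have := Fact.mk hr
  have hfin : Finite W := Module.finite_of_finite F
  have hfinP : Finite (Projectivization F W) := inferInstance
  cases nonempty_fintype (Projectivization F W)
  let σ : Function.End (Projectivization F W) := Projectivization.map f hf
  have hσk : ∀ (k : ℕ) (w : W) (hw : w ≠ 0) (hw' : (f ^ k) w ≠ 0), (σ ^ k) (Projectivization.mk F w hw) =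
      Projectivization.mk F ((f ^ k) w) hw' := by
    intro k
    induction k with
    | zero => intro w hw hw'; rfl
    | succ k ih =>
      intro w hw hw'
      have h1 : (f ^ k) w ≠ 0 := by
        intro h0
        apply hw'
        rw [pow_succ', Module.End.mul_apply, h0, map_zero]
      rw [pow_succ']
      change σ ((σ ^ k) (Projectivization.mk F w hw)) = _
      rw [ih w hw h1]
      change Projectivization.mk F (f ((f ^ k) w)) _ = _
      congr 1
      rw [pow_succ', Module.End.mul_apply]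
  have hσ : σ ^ r ^ 1 = 1 := by
    rw [pow_one]
    funext P
    induction P using Projectivization.ind with | h w hw =>
    have h1 : (f ^ r) w ≠ 0 := by
      have : ∀ k : ℕ, (f ^ k) w ≠ 0 := by
        intro k
        induction k with
        | zero => exact hw
        | succ k ih =>
          rw [pow_succ', Module.End.mul_apply]
          intro h0
          exact ih (hf (by rw [h0, map_zero]))
      exact this r
    rw [hσk r w hw h1]
    change _ = Projectivization.mk F w hw
    rw [Projectivization.mk_eq_mk_iff']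
    exact ⟨c, (hc w).symm⟩
  have h1 := Equiv.Perm.card_fixedPoints_modEq hσ
  have h2 : Fintype.card (Function.fixedPoints σ) = 0 := by
    rw [Fintype.card_eq_zero_iff]
    constructor
    rintro ⟨P, hP⟩
    induction P using Projectivization.ind with | h w hw =>
    have h3 : Projectivization.mk F (f w) (by
        intro h0; exact hw (hf (by rw [h0, map_zero]))) = Projectivization.mk F w hw := hP
    rw [Projectivization.mk_eq_mk_iff'] at h3
    obtain ⟨d, hd⟩ := h3
    exact heig w hw d hd.symm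
  rw [h2] at h1
  rw [Nat.card_eq_fintype_card]
  exact (Nat.modEq_zero_iff_dvd).1 h1

theorem dvd_two {F W : Type*} [Field F] [Finite F] [AddCommGroup W] [Module F W] (hd : finrank F W = 2)
    (f : W →ₗ[F] W) (hf : Function.Injective f) {r : ℕ} (hr : r.Prime) {c : F} (hc : ∀ w, (f ^ r) w = c • w)
    (heig : ∀ w, w ≠ 0 → ∀ d : F, f w ≠ d • w) : r ∣ Nat.card F + 1 := by
  have : Module.Finite F W := Module.finite_of_finrank_pos (by omega)
  rw [← Projectivization.card_of_finrank_two (k := F) (V := W) hd]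
  exact dvd_proj f hf hr hc heig

/-- fixed vectors of a map of prime order -/
theorem fix_modEq {F W : Type*} [Field F] [Finite F] [AddCommGroup W] [Module F W] [Module.Finite F W]
    (f : W →ₗ[F] W) {r : ℕ} (hr : r.Prime) (hc : ∀ w, (f ^ r) w = w) (E : Submodule F W)
    (hE : ∀ w, w ∈ E ↔ f w = w) : Nat.card F ^ finrank F W ≡ Nat.card F ^ finrank F E [MOD r] := by
  classical
  have := Fact.mk hr
  have hfin : Finite W := Module.finite_of_finite F
  cases nonempty_fintype W
  let σ : Function.End W := fun w => f w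
  have hσk : ∀ (k : ℕ) (w : W), (σ ^ k) w = (f ^ k) w := by
    intro k
    induction k with
    | zero => intro w; rfl
    | succ k ih =>
      intro w
      rw [pow_succ', pow_succ']
      change σ ((σ ^ k) w) = f ((f ^ k) w)
      rw [ih]
  have hσ : σ ^ r ^ 1 = 1 := by
    rw [pow_one]
    funext w
    rw [hσk, hc]
    rfl
  have h1 := Equiv.Perm.card_fixedPoints_modEq hσ
  have h2 : Fintype.card (Function.fixedPoints σ) = Nat.card E := by
    rw [← Nat.card_eq_fintype_card]
    exact Nat.card_congr (Equiv.subtypeEquivRight fun w => (hE w).symm)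
  rw [h2, ← Nat.card_eq_fintype_card, Module.natCard_eq_pow_finrank (K := F) (V := W),
    Module.natCard_eq_pow_finrank (K := F) (V := E)] at h1
  exact h1

end count

section num

theorem pd_one {s p : ℕ} (hs : s.Prime) (hp : p.Prime) (h : s ∣ p) : s = p := (Nat.prime_dvd_prime_iff_eq hs hp).1 h

theorem pd_two {s p q : ℕ} (hs : s.Prime) (hp : p.Prime) (hq : q.Prime) (h : s ∣ p * q) : s = p ∨ s = q := by
  rcases hs.dvd_mul.1 h with h | h
  · exact Or.inl (pd_one hs hp h)
  · exact Or.inr (pd_one hs hq h)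

theorem pd_pow {s p k : ℕ} (hs : s.Prime) (hp : p.Prime) (h : s ∣ p ^ k) : s = p :=
  pd_one hs hp (hs.dvd_of_dvd_pow h)

end num

section lin

variable {F V G Ω ι : Type} [Field F] [Finite F] [AddCommGroup V] [Module F V] [Module.Finite F V] [Group G] [Finite G]
  [Nonempty Ω] [MulAction G Ω] [Finite ι] {N : Subgroup G} {κ : SLV F V →* G} {x : ι → G} {r : ι → ℕ}
  {a : ι → V ≃ₗ[F] V}

theorem LinCov.not_scal (h : LinCov Ω N κ x r a) (i : ι) : ¬ ∃ c : F, ∀ v, a i v = c • v := by
  rintro ⟨c, hc⟩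
  apply h.pf.ne i
  rw [← map_one κ]
  apply h.fr.eq_of_act
  intro s
  rw [h.lift]
  congr 1
  apply cj_eq
  intro v
  rw [hc, hc, map_smul]
  congr 1

theorem LinCov.acomm (h : LinCov Ω N κ x r a) (i j : ι) (v : V) : a i (a j v) = a j (a i v) :=
  congrArg (fun f : V ≃ₗ[F] V => f v) (h.comm i j)

theorem LinCov.two (h : LinCov Ω N κ x r a) (i : ι) : ∃ j, j ≠ i := h.cov.two h.fr.env h.pf.ne i

theorem LinCov.nonempty (h : LinCov Ω N κ x r a) : Nonempty ι := by
  obtain ⟨i, -⟩ := h.cov (Classical.arbitrary Ω)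
  exact ⟨i⟩

/-- a member of order prime to `p` -/
theorem LinCov.exists_ne (h : LinCov Ω N κ x r a) (p : ℕ) : ∃ i, r i ≠ p := by
  obtain ⟨i⟩ := h.nonempty
  by_cases hi : r i = p
  · obtain ⟨j, hj⟩ := h.two i
    exact ⟨j, fun e => hj (h.pf.inj (e.trans hi.symm))⟩
  · exact ⟨i, hi⟩

variable {W : Submodule F V}

/-- in an invariant plane without invariant lines a non scalar `a i` has no eigenvector -/
theorem no_eig (h : LinCov Ω N κ x r a) (hn : 3 ≤ finrank F V) (hW : ∀ i, ∀ w ∈ W, a i w ∈ W)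
    (hd : finrank F W = 2) {i : ι} (hi : ¬ ∃ c : F, ∀ w ∈ W, a i w = c • w) :
    ∀ w ∈ W, w ≠ 0 → ¬ ∃ c : F, a i w = c • w := by
  rintro w hw hw0 ⟨c, hc⟩
  let E : Submodule F V :=
    { carrier := {u | u ∈ W ∧ a i u = c • u}
      zero_mem' := ⟨W.zero_mem, by simp⟩
      add_mem' := by
        rintro u v ⟨hu, hu'⟩ ⟨hv, hv'⟩
        exact ⟨W.add_mem hu hv, by rw [map_add, hu', hv', smul_add]⟩
      smul_mem' := by
        rintro d u ⟨hu, hu'⟩
        exact ⟨W.smul_mem _ hu, by rw [map_smul, hu', smul_comm]⟩ }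
  have hE : ∀ u, u ∈ E ↔ u ∈ W ∧ a i u = c • u := fun _ => Iff.rfl
  have hEW : E < W := by
    refine lt_of_le_of_ne (fun u hu => hu.1) ?_
    intro he
    apply hi
    refine ⟨c, fun u hu => ?_⟩
    rw [← he] at hu
    exact hu.2
  have h1 := Submodule.finrank_lt_finrank_of_lt hEW
  rw [hd] at h1
  have hwE : w ∈ E := ⟨hw, hc⟩
  have hE1 : finrank F E = 1 := by
    have : finrank F E ≠ 0 := by
      intro h0
      rw [Submodule.finrank_eq_zero] at h0
      rw [h0, Submodule.mem_bot] at hwE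
      exact hw0 hwE
    omega
  apply no_point h hn w hw0
  intro j
  have hj : a j w ∈ E := ⟨hW j w hw, by rw [h.acomm, hc, map_smul]⟩
  have h2 := (finrank_eq_one_iff_of_nonzero' (⟨w, hwE⟩ : E) (by
    intro h0; exact hw0 (congrArg Subtype.val h0))).1 hE1 ⟨a j w, hj⟩
  obtain ⟨d, hd'⟩ := h2
  exact ⟨d, (congrArg Subtype.val hd').symm⟩

/-- restriction of `a i` -/
def rs (a : ι → V ≃ₗ[F] V) (hW : ∀ i, ∀ w ∈ W, a i w ∈ W) (i : ι) : W →ₗ[F] W :=
  (a i : V →ₗ[F] V).restrict (hW i)

theorem rs_coe (hW : ∀ i, ∀ w ∈ W, a i w ∈ W) (i : ι) (w : W) : ((rs a hW i w : W) : V) = a i w := rfl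

theorem rs_inj (hW : ∀ i, ∀ w ∈ W, a i w ∈ W) (i : ι) : Function.Injective (rs a hW i) := by
  intro w w' e
  apply Subtype.ext
  exact (a i).injective (congrArg Subtype.val e)

theorem rs_pow (hW : ∀ i, ∀ w ∈ W, a i w ∈ W) (i : ι) (k : ℕ) (w : W) :
    (((rs a hW i ^ k) w : W) : V) = (a i ^ k) w := by
  induction k with
  | zero => rfl
  | succ k ih =>
    rw [pow_succ', pow_succ', Module.End.mul_apply, rs_coe, ih]
    rfl

/-- order of a non scalar `a i` on an invariant plane -/
theorem dvd_plane (h : LinCov Ω N κ x r a) (hn : 3 ≤ finrank F V) (hW : ∀ i, ∀ w ∈ W, a i w ∈ W)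
    (hd : finrank F W = 2) {i : ι} (hi : ¬ ∃ c : F, ∀ w ∈ W, a i w = c • w) : r i ∣ Nat.card F + 1 := by
  obtain ⟨c, hc⟩ := H338.RC.pow_scalar h (by omega) i
  refine dvd_two hd (rs a hW i) (rs_inj hW i) (h.pf.prime i) (c := c) ?_ ?_
  · intro w
    apply Subtype.ext
    rw [rs_pow, hc]
    rfl
  · intro w hw d e
    refine no_eig h hn hW hd hi w w.2 (fun h0 => hw (Subtype.ext h0)) ⟨d, ?_⟩
    exact congrArg Subtype.val e

/-- not all `a i` are scalar on an invariant `W ≠ 0` -/
theorem exists_nonscal (h : LinCov Ω N κ x r a) (hn : 3 ≤ finrank F V) (hW0 : W ≠ ⊥) :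
    ∃ i, ¬ ∃ c : F, ∀ w ∈ W, a i w = c • w := by
  by_contra hcon
  push Not at hcon
  obtain ⟨w, hw, hw0⟩ := Submodule.exists_mem_ne_zero_of_ne_bot hW0
  exact no_point h hn w hw0 fun i => by
    obtain ⟨c, hc⟩ := hcon i
    exact ⟨c, hc w hw⟩

theorem two_le_dim (h : LinCov Ω N κ x r a) (hn : 3 ≤ finrank F V) (hW : ∀ i, ∀ w ∈ W, a i w ∈ W)
    (hW0 : W ≠ ⊥) : 2 ≤ finrank F W := by
  by_contra hcon
  obtain ⟨w, hw, hw0⟩ := Submodule.exists_mem_ne_zero_of_ne_bot hW0
  have h1 : finrank F W = 1 := by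
    have : finrank F W ≠ 0 := by
      intro h0
      rw [Submodule.finrank_eq_zero] at h0
      exact hW0 h0
    omega
  apply no_point h hn w hw0
  intro j
  obtain ⟨d, hd'⟩ := (finrank_eq_one_iff_of_nonzero' (⟨w, hw⟩ : W) (by
    intro h0; exact hw0 (congrArg Subtype.val h0))).1 h1 ⟨a j w, hW j w hw⟩
  exact ⟨d, (congrArg Subtype.val hd').symm⟩

/-! ### the case `q = 2` -/

/-- fixed vectors of `a i` in `W` -/
def fx (a : ι → V ≃ₗ[F] V) (W : Submodule F V) (i : ι) : Submodule F V where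
  carrier := {u | u ∈ W ∧ a i u = u}
  zero_mem' := ⟨W.zero_mem, by simp⟩
  add_mem' := by
    rintro u v ⟨hu, hu'⟩ ⟨hv, hv'⟩
    exact ⟨W.add_mem hu hv, by rw [map_add, hu', hv']⟩
  smul_mem' := by
    rintro d u ⟨hu, hu'⟩
    exact ⟨W.smul_mem _ hu, by rw [map_smul, hu']⟩

theorem mem_fx {i : ι} {u : V} : u ∈ fx a W i ↔ u ∈ W ∧ a i u = u := Iff.rfl

theorem fx_inv (h : LinCov Ω N κ x r a) (hW : ∀ i, ∀ w ∈ W, a i w ∈ W) (i : ι) :
    ∀ j, ∀ w ∈ fx a W i, a j w ∈ fx a W i := by
  rintro j w ⟨hw, hw'⟩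
  exact ⟨hW j w hw, by rw [h.acomm, hw']⟩

theorem scal_two (hq : Nat.card F = 2) (c : F) (hc : c ≠ 0) : c = 1 := by
  classical
  cases nonempty_fintype F
  by_contra h1
  have h2 : ({0, 1, c} : Finset F).card ≤ Fintype.card F := Finset.card_le_univ _
  rw [← Nat.card_eq_fintype_card, hq, Finset.card_eq_three.2 ⟨0, 1, c, zero_ne_one, hc.symm, Ne.symm h1, rfl⟩] at h2
  omega

theorem pow_two' (h : LinCov Ω N κ x r a) (hn : 3 ≤ finrank F V) (hq : Nat.card F = 2) (i : ι) (v : V) :
    (a i ^ r i) v = v := by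
  obtain ⟨c, hc⟩ := H338.RC.pow_scalar h (by omega) i
  by_cases hc0 : c = 0
  · have h1 := hc v
    rw [hc0, zero_smul] at h1
    rw [h1]
    exact ((a i ^ r i).map_eq_zero_iff.1 h1).symm
  · rw [hc, scal_two hq c hc0, one_smul]

theorem fix_sub (h : LinCov Ω N κ x r a) (hn : 3 ≤ finrank F V) (hq : Nat.card F = 2)
    (hW : ∀ i, ∀ w ∈ W, a i w ∈ W) (i : ι) :
    2 ^ finrank F W ≡ 2 ^ finrank F (fx a W i) [MOD r i] := by
  have h1 := fix_modEq (rs a hW i) (h.pf.prime i) (fun w => Subtype.ext (by rw [rs_pow, pow_two' h hn hq]))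
    ((fx a W i).comap W.subtype) (fun w => by
      rw [Submodule.mem_comap, mem_fx]
      constructor
      · rintro ⟨-, h2⟩
        exact Subtype.ext h2
      · intro h2
        exact ⟨w.2, congrArg Subtype.val h2⟩)
  rw [hq] at h1
  have h2 : fx a W i ≤ W := fun u hu => hu.1
  rwa [(Submodule.comapSubtypeEquivOfLe h2).finrank_eq] at h1

/-- for `q = 2` and `dim W = 4` at most one `a i` is nontrivial on `W` if those of order three are trivial -/
theorem one_nontriv (h : LinCov Ω N κ x r a) (hn : 3 ≤ finrank F V) (hq : Nat.card F = 2)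
    (hW : ∀ i, ∀ w ∈ W, a i w ∈ W) (hd : finrank F W = 4) (h3 : ∀ i, r i = 3 → ∀ w ∈ W, a i w = w) :
    ∃ i₀, ∀ i, i ≠ i₀ → ∃ c : F, ∀ w ∈ W, a i w = c • w := by
  have hW0 : W ≠ ⊥ := by
    rintro rfl
    rw [finrank_bot] at hd; omega
  by_contra hcon
  have hcon' : ∀ i₀, ∃ i, i ≠ i₀ ∧ ¬ ∃ c : F, ∀ w ∈ W, a i w = c • w := by
    intro i₀
    by_contra hno
    push Not at hno
    exact hcon ⟨i₀, hno⟩
  have hns3 : ∀ i, (¬ ∃ c : F, ∀ w ∈ W, a i w = c • w) → r i ≠ 3 := by
    intro i hi h0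
    exact hi ⟨1, fun w hw => by rw [h3 i h0 w hw, one_smul]⟩
  have hfx : ∀ i, (¬ ∃ c : F, ∀ w ∈ W, a i w = c • w) → finrank F (fx a W i) ≤ 3 := by
    intro i hi
    have h1 : fx a W i < W := by
      refine lt_of_le_of_ne (fun u hu => hu.1) ?_
      intro he
      apply hi
      refine ⟨1, fun w hw => ?_⟩
      rw [← he] at hw
      rw [hw.2, one_smul]
    have := Submodule.finrank_lt_finrank_of_lt h1
    omega
  have hfx1 : ∀ i, finrank F (fx a W i) ≠ 1 := by
    intro i hi
    have h0 : fx a W i ≠ ⊥ := by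
      intro h0
      rw [h0, finrank_bot] at hi; omega
    have := two_le_dim h hn (fx_inv h hW i) h0
    omega
  -- a non scalar element of odd order has order five and no fixed vectors
  have key : ∀ i, (¬ ∃ c : F, ∀ w ∈ W, a i w = c • w) → r i ≠ 2 → r i = 5 ∧ finrank F (fx a W i) = 0 := by
    intro i hi h2
    have h1 := fix_sub h hn hq hW i
    rw [hd] at h1
    have h4 := hfx i hi
    have h5 := hfx1 i
    have hp := h.pf.prime i
    have h3' := hns3 i hi
    have h6 : finrank F (fx a W i) = 0 ∨ finrank F (fx a W i) = 2 ∨ finrank F (fx a W i) = 3 := by omega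
    rcases h6 with h6 | h6 | h6
    · rw [h6] at h1
      have h7 : r i ∣ 3 * 5 := by
        have := (Nat.modEq_iff_dvd' (by norm_num)).1 h1.symm
        simpa using this
      refine ⟨?_, h6⟩
      rcases pd_two hp Nat.prime_three Nat.prime_five h7 with h | h
      · exact absurd h h3'
      · exact h
    · exfalso
      rw [h6] at h1
      have h7 : r i ∣ 2 ^ 2 * 3 := by
        have := (Nat.modEq_iff_dvd' (by norm_num)).1 h1.symm
        simpa using this
      rcases hp.dvd_mul.1 h7 with h | h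
      · exact h2 (pd_pow hp Nat.prime_two h)
      · exact h3' (pd_one hp Nat.prime_three h)
    · exfalso
      rw [h6] at h1
      have h7 : r i ∣ 2 ^ 3 := by
        have := (Nat.modEq_iff_dvd' (by norm_num)).1 h1.symm
        simpa using this
      exact h2 (pd_pow hp Nat.prime_two h7)
  -- an involution and an element of order five do not commute
  have key2 : ∀ i j, (¬ ∃ c : F, ∀ w ∈ W, a i w = c • w) → (¬ ∃ c : F, ∀ w ∈ W, a j w = c • w) → r i ≠ 2 →
      r j = 2 → False := by
    intro i j hi hj h2 hj2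
    obtain ⟨h5, h0⟩ := key i hi h2
    have h1 := fix_sub h hn hq hW j
    rw [hd, hj2] at h1
    have h4 := hfx j hj
    have hE : fx a (fx a W j) i = ⊥ := by
      rw [eq_bot_iff]
      intro u hu
      rw [Submodule.finrank_eq_zero] at h0
      rw [← h0]
      exact ⟨hu.1.1, hu.2⟩
    have h6 := fix_sub h hn hq (fx_inv h hW j) i
    rw [hE, finrank_bot, h5] at h6
    have h7 : finrank F (fx a W j) ≠ 0 := by
      intro h0
      rw [h0] at h1
      revert h1
      decide
    have h8 : finrank F (fx a W j) = 1 ∨ finrank F (fx a W j) = 2 ∨ finrank F (fx a W j) = 3 := by omega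
    rcases h8 with h8 | h8 | h8
    · rw [h8] at h6; revert h6; decide
    · rw [h8] at h6; revert h6; decide
    · rw [h8] at h6; revert h6; decide
  obtain ⟨i, hi⟩ := exists_nonscal h hn hW0
  obtain ⟨j, hji, hj⟩ := hcon' i
  by_cases hi2 : r i = 2
  · have hj2 : r j ≠ 2 := fun h' => hji (h.pf.inj (h'.trans hi2.symm))
    exact key2 j i hj hi hj2 hi2
  · by_cases hj2 : r j = 2
    · exact key2 i j hi hj hi2 hj2
    · exact hji (h.pf.inj ((key j hj hj2).1.trans (key i hi hi2).1.symm))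

/-! ### decompositions -/

/-- box C with the induction hypothesis: conclusion for the given cover -/
def SumP (F : Type) {V ι : Type} [Field F] [AddCommGroup V] [Module F V] (a : ι → V ≃ₗ[F] V) : Prop :=
  ∀ W W' : Submodule F V, IsCompl W W' → (∀ i, ∀ w ∈ W, a i w ∈ W) → (∀ i, ∀ w ∈ W', a i w ∈ W') →
    2 ≤ finrank F W → W' ≠ ⊥ → (finrank F W = 2 → 4 ≤ Nat.card F) → (∃ i, ¬ ∃ c : F, ∀ w ∈ W, a i w = c • w) →
    (¬ Exc (Matrix.ProjectiveSpecialLinearGroup (Fin (finrank F W)) F) ∨
      ∃ i₀, ∀ i, i ≠ i₀ → ∃ c : F, ∀ w ∈ W, a i w = c • w) → False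

theorem not_exc {d : ℕ} (hd : 2 ≤ d) (h2 : ¬ (d = 2 ∧ (Nat.card F = 4 ∨ Nat.card F = 5 ∨ Nat.card F = 9)))
    (h4 : ¬ (d = 4 ∧ Nat.card F = 2)) : ¬ Exc (Matrix.ProjectiveSpecialLinearGroup (Fin d) F) := by
  cases nonempty_fintype F
  rw [Nat.card_eq_fintype_card] at h2 h4
  intro he
  rcases psl_exc hd he with h | h
  · exact h2 h
  · exact h4 h

/-- decompositions, `q = 2`, elements of order three trivial on `W` -/
theorem dec_two (h : LinCov Ω N κ x r a) (hn : 3 ≤ finrank F V) (hS : SumP F a) (hq : Nat.card F = 2)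
    {W' : Submodule F V} (hc : IsCompl W W') (hW : ∀ i, ∀ w ∈ W, a i w ∈ W) (hW' : ∀ i, ∀ w ∈ W', a i w ∈ W')
    (hW0 : W ≠ ⊥) (hW0' : W' ≠ ⊥) (h3 : ∀ i, r i = 3 → ∀ w ∈ W, a i w = w) : False := by
  have hd := two_le_dim h hn hW hW0
  have hns := exists_nonscal h hn hW0
  by_cases hd2 : finrank F W = 2
  · obtain ⟨i, hi⟩ := hns
    have h1 := dvd_plane h hn hW hd2 hi
    rw [hq] at h1
    exact hi ⟨1, fun w hw => by rw [h3 i (pd_one (h.pf.prime i) Nat.prime_three h1) w hw, one_smul]⟩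
  · refine hS W W' hc hW hW' hd hW0' (fun h' => absurd h' hd2) hns ?_
    by_cases hd4 : finrank F W = 4
    · right
      exact one_nontriv h hn hq hW hd4 h3
    · left
      exact not_exc hd (fun h' => hd2 h'.1) (fun h' => hd4 h'.1)

/-- `a j` scalar on both summands -/
theorem dvd_diag (h : LinCov Ω N κ x r a) (hn : 3 ≤ finrank F V) {W' : Submodule F V} (hc : IsCompl W W')
    (hW0 : W ≠ ⊥) (hW0' : W' ≠ ⊥) {j : ι} (h1 : ∃ c : F, ∀ w ∈ W, a j w = c • w)
    (h2 : ∃ c : F, ∀ w ∈ W', a j w = c • w) : r j ∣ Nat.card F - 1 := by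
  classical
  obtain ⟨c, hc1⟩ := h1
  obtain ⟨d, hd1⟩ := h2
  obtain ⟨w, hw, hw0⟩ := Submodule.exists_mem_ne_zero_of_ne_bot hW0
  obtain ⟨w', hw', hw0'⟩ := Submodule.exists_mem_ne_zero_of_ne_bot hW0'
  have hc0 : c ≠ 0 := by
    rintro rfl
    have := hc1 w hw
    rw [zero_smul] at this
    exact hw0 ((a j).map_eq_zero_iff.1 this)
  have hd0 : d ≠ 0 := by
    rintro rfl
    have := hd1 w' hw'
    rw [zero_smul] at this
    exact hw0' ((a j).map_eq_zero_iff.1 this)
  obtain ⟨e, he⟩ := H338.RC.pow_scalar h (by omega) j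
  have hpw : ∀ k : ℕ, (a j ^ k) w = c ^ k • w := by
    intro k
    induction k with
    | zero => simp
    | succ k ih => rw [pow_succ', LinearEquiv.mul_apply, ih, map_smul, hc1 w hw, smul_smul, pow_succ]
  have hpw' : ∀ k : ℕ, (a j ^ k) w' = d ^ k • w' := by
    intro k
    induction k with
    | zero => simp
    | succ k ih => rw [pow_succ', LinearEquiv.mul_apply, ih, map_smul, hd1 w' hw', smul_smul, pow_succ]
  have hce : c ^ r j = e := by
    have h3 := he w
    rw [hpw, ← sub_eq_zero, ← sub_smul] at h3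
    exact sub_eq_zero.1 ((smul_eq_zero.1 h3).resolve_right hw0)
  have hde : d ^ r j = e := by
    have h3 := he w'
    rw [hpw', ← sub_eq_zero, ← sub_smul] at h3
    exact sub_eq_zero.1 ((smul_eq_zero.1 h3).resolve_right hw0')
  have hne : c ≠ d := by
    rintro rfl
    apply h.not_scal j
    refine ⟨c, fun v => ?_⟩
    have hv : v ∈ W ⊔ W' := by rw [hc.sup_eq_top]; trivial
    obtain ⟨y, hy, z, hz, rfl⟩ := Submodule.mem_sup.1 hv
    rw [map_add, hc1 y hy, hd1 z hz, smul_add]
  cases nonempty_fintype F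
  have := Fact.mk (h.pf.prime j)
  have h5 : (Units.mk0 (c / d) (div_ne_zero hc0 hd0)) ^ r j = 1 := by
    apply Units.ext
    rw [Units.val_pow_eq_pow_val, Units.val_mk0, div_pow, hce, hde, Units.val_one, div_self]
    rw [← hde]; exact pow_ne_zero _ hd0
  have h6 : Units.mk0 (c / d) (div_ne_zero hc0 hd0) ≠ 1 := by
    intro h0
    have := congrArg Units.val h0
    rw [Units.val_mk0, Units.val_one, div_eq_one_iff_eq hd0] at this
    exact hne this
  have h7 := orderOf_eq_prime h5 h6
  rw [← h7, Nat.card_eq_fintype_card, ← Fintype.card_units]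
  exact orderOf_dvd_card

end lin

end Cfsg.Agent.H202.RC
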