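import Cfsg.Agent.H202.RC.LinDec

/-!
# Case analysis for linear covers: decompositions for `q ≥ 3`, fields generated by one lift
-/

set_option autoImplicit false
set_option linter.unusedSectionVars false
open Cfsg

namespace Cfsg.Agent.H202.RC

open MulAction Cfsg.Agent.H106.RC Module

section lin

variable {F V G Ω ι : Type} [Field F] [Finite F] [AddCommGroup V] [Module F V] [Module.Finite F V] [Group G] [Finite G]
  [Finite Ω] [Nonempty Ω] [MulAction G Ω] [Finite ι] {N : Subgroup G} {κ : SLV F V →* G} {x : ι → G} {r : ι → ℕ}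
  {a : ι → V ≃ₗ[F] V} {W : Submodule F V}

/-- two planes -/
theorem dec_planes (h : LinCov Ω N κ x r a) (hn : 3 ≤ finrank F V) (hS : SumP F a) (hq : 3 ≤ Nat.card F)
    {W' : Submodule F V} (hc : IsCompl W W') (hW : ∀ i, ∀ w ∈ W, a i w ∈ W) (hW' : ∀ i, ∀ w ∈ W', a i w ∈ W')
    (hd : finrank F W = 2) (hd' : finrank F W' = 2) : False := by
  have hW0 : W ≠ ⊥ := by
    rintro rfl
    rw [finrank_bot] at hd; omega
  have hW0' : W' ≠ ⊥ := by
    rintro rfl
    rw [finrank_bot] at hd'; omega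
  have hns := exists_nonscal h hn hW0
  have hns' := exists_nonscal h hn hW0'
  have hdv : ∀ i, (¬ ∃ c : F, ∀ w ∈ W, a i w = c • w) → r i ∣ Nat.card F + 1 := fun i hi => dvd_plane h hn hW hd hi
  have hdv' : ∀ i, (¬ ∃ c : F, ∀ w ∈ W', a i w = c • w) → r i ∣ Nat.card F + 1 := fun i hi =>
    dvd_plane h hn hW' hd' hi
  have hdg : ∀ i, (∃ c : F, ∀ w ∈ W, a i w = c • w) → (∃ c : F, ∀ w ∈ W', a i w = c • w) → r i ∣ Nat.card F - 1 :=
    fun i h1 h2 => dvd_diag h hn hc hW0 hW0' h1 h2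
  have hpr := h.pf.prime
  by_cases hq3 : Nat.card F = 3
  · rw [hq3] at hdv hdv' hdg
    have h2 : ∀ i, r i = 2 := by
      intro i
      by_cases h1 : ∃ c : F, ∀ w ∈ W, a i w = c • w
      · by_cases h2 : ∃ c : F, ∀ w ∈ W', a i w = c • w
        · exact pd_one (hpr i) Nat.prime_two (hdg i h1 h2)
        · exact pd_pow (k := 2) (hpr i) Nat.prime_two (hdv' i h2)
      · exact pd_pow (k := 2) (hpr i) Nat.prime_two (hdv i h1)
    obtain ⟨i, hi⟩ := hns
    obtain ⟨j, hj⟩ := h.two i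
    exact hj (h.pf.inj ((h2 j).trans (h2 i).symm))
  have hq4 : 4 ≤ Nat.card F := by omega
  by_cases hex : Nat.card F = 4 ∨ Nat.card F = 5 ∨ Nat.card F = 9
  swap
  · refine hS W W' hc hW hW' (by omega) hW0' (fun _ => hq4) hns (Or.inl ?_)
    exact not_exc (by omega) (fun h' => hex h'.2) (fun h' => by omega)
  by_cases h1 : ∃ i₀, ∀ i, i ≠ i₀ → ∃ c : F, ∀ w ∈ W, a i w = c • w
  · exact hS W W' hc hW hW' (by omega) hW0' (fun _ => hq4) hns (Or.inr h1)
  by_cases h1' : ∃ i₀, ∀ i, i ≠ i₀ → ∃ c : F, ∀ w ∈ W', a i w = c • w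
  · exact hS W' W hc.symm hW' hW (by omega) hW0 (fun _ => hq4) hns' (Or.inr h1')
  have g1 : ∀ i₀, ∃ i, i ≠ i₀ ∧ ¬ ∃ c : F, ∀ w ∈ W, a i w = c • w := by
    intro i₀
    by_contra hno
    push Not at hno
    exact h1 ⟨i₀, hno⟩
  have g1' : ∀ i₀, ∃ i, i ≠ i₀ ∧ ¬ ∃ c : F, ∀ w ∈ W', a i w = c • w := by
    intro i₀
    by_contra hno
    push Not at hno
    exact h1' ⟨i₀, hno⟩
  obtain ⟨i1, hi1⟩ := hns
  obtain ⟨i2, hi21, hi2⟩ := g1 i1
  obtain ⟨j1, hj1⟩ := hns'
  obtain ⟨j2, hj21, hj2⟩ := g1' j1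
  -- the two primes dividing `q + 1`
  obtain ⟨s, hs⟩ : ∃ s : ℕ, (∀ i, r i ∣ Nat.card F + 1 → r i = 2 ∨ r i = s) ∧ (∀ i, r i ∣ Nat.card F - 1 → r i = 2 ∨ r i = s) := by
    rcases hex with hex | hex | hex
    · exact ⟨5, fun i hi => by
        rw [hex] at hi
        exact Or.inr (pd_one (hpr i) Nat.prime_five hi), fun i hi => by
        exfalso
        rw [hex] at hdv
        exact hi21 (h.pf.inj ((pd_one (hpr _) Nat.prime_five (hdv _ hi2)).trans
          (pd_one (hpr _) Nat.prime_five (hdv _ hi1)).symm))⟩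
    · exact ⟨3, fun i hi => by
        rw [hex] at hi
        exact pd_two (hpr i) Nat.prime_two Nat.prime_three hi, fun i hi => by
        rw [hex] at hi
        exact Or.inl (pd_pow (k := 2) (hpr i) Nat.prime_two hi)⟩
    · exact ⟨5, fun i hi => by
        rw [hex] at hi
        exact pd_two (hpr i) Nat.prime_two Nat.prime_five hi, fun i hi => by
        rw [hex] at hi
        exact Or.inl (pd_pow (k := 3) (hpr i) Nat.prime_two hi)⟩
  -- every member is one of `i1, i2`, and one of `j1, j2`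
  have hall : ∀ i, r i = 2 ∨ r i = s := by
    intro i
    by_cases h1 : ∃ c : F, ∀ w ∈ W, a i w = c • w
    · by_cases h2 : ∃ c : F, ∀ w ∈ W', a i w = c • w
      · exact hs.2 i (hdg i h1 h2)
      · exact hs.1 i (hdv' i h2)
    · exact hs.1 i (hdv i h1)
  have hmem : ∀ i j k : ι, j ≠ k → i = j ∨ i = k := by
    intro i j k hjk
    by_contra hcon
    push Not at hcon
    rcases hall i with hi | hi <;> rcases hall j with hj | hj <;> rcases hall k with hk | hk <;>
    first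
    | exact hcon.1 (h.pf.inj (hi.trans hj.symm))
    | exact hcon.2 (h.pf.inj (hi.trans hk.symm))
    | exact hjk (h.pf.inj (hj.trans hk.symm))
  have hnsc : ∀ i, ¬ ∃ c : F, ∀ w ∈ W, a i w = c • w := by
    intro i
    rcases hmem i i1 i2 (Ne.symm hi21) with rfl | rfl
    · exact hi1
    · exact hi2
  have hnsc' : ∀ i, ¬ ∃ c : F, ∀ w ∈ W', a i w = c • w := by
    intro i
    rcases hmem i j1 j2 (Ne.symm hj21) with rfl | rfl
    · exact hj1
    · exact hj2
  have hcard : Nat.card ι ≤ 2 := by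
    classical
    cases nonempty_fintype ι
    rw [Nat.card_eq_fintype_card]
    have h3 : (Finset.univ : Finset ι) ⊆ {i1, i2} := by
      intro i _
      rw [Finset.mem_insert, Finset.mem_singleton]
      exact hmem i i1 i2 (Ne.symm hi21)
    exact (Finset.card_le_card h3).trans Finset.card_le_two
  exact H991.RC.no_22 h W W' hc hd hd' hW hW' (fun i => no_eig h hn hW hd (hnsc i))
    (fun i => no_eig h hn hW' hd' (hnsc' i)) (by omega)

/-- **No decomposition, `q ≥ 3`.** -/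
theorem dec_odd (h : LinCov Ω N κ x r a) (hn : 3 ≤ finrank F V) (hS : SumP F a) (hq : 3 ≤ Nat.card F)
    {W' : Submodule F V} (hc : IsCompl W W') (hW : ∀ i, ∀ w ∈ W, a i w ∈ W) (hW' : ∀ i, ∀ w ∈ W', a i w ∈ W')
    (hW0 : W ≠ ⊥) (hW0' : W' ≠ ⊥) : False := by
  have hd := two_le_dim h hn hW hW0
  have hd' := two_le_dim h hn hW' hW0'
  by_cases h2 : finrank F W = 2
  · by_cases h2' : finrank F W' = 2
    · exact dec_planes h hn hS hq hc hW hW' h2 h2'
    · refine hS W' W hc.symm hW' hW hd' hW0 (fun h' => absurd h' h2') (exists_nonscal h hn hW0') (Or.inl ?_)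
      exact not_exc hd' (fun h' => h2' h'.1) (fun h' => by omega)
  · refine hS W W' hc hW hW' hd hW0' (fun h' => absurd h' h2) (exists_nonscal h hn hW0) (Or.inl ?_)
    exact not_exc hd (fun h' => h2 h'.1) (fun h' => by omega)

end lin

end Cfsg.Agent.H202.RC
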