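import Cfsg.Agent.H202.RC.Lin
import Cfsg.Agent.H253.RC.NoSum

/-!
# Box C for `no_lin_of`
-/

set_option autoImplicit false
set_option linter.unusedSectionVars false
open Cfsg

namespace Cfsg.Agent.H202.RC

open MulAction Cfsg.Agent.H106.RC Module Cfsg.Agent.H253.RC.NoSum

section lin

variable {F V G Ω ι : Type} [Field F] [Finite F] [AddCommGroup V] [Module F V] [Module.Finite F V] [Group G] [Finite G]
  [Finite Ω] [Nonempty Ω] [MulAction G Ω] [Finite ι] {N : Subgroup G} {κ : SLV F V →* G} {x : ι → G} {r : ι → ℕ}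
  {a : ι → V ≃ₗ[F] V}

theorem sumP (h : LinCov Ω N κ x r a) (hn : 3 ≤ finrank F V) (hIH : IH (Nat.card N)) : SumP F a := by
  intro W W' hc hW hW' hd hd' hsm hns hex
  refine no_sum h hn W W' hc hW hW' hd hd' hsm hns ?_
  rcases hex with hex | hex
  · left
    obtain ⟨hS, hSn, -, π, hπ, -⟩ := exists_pi_sum h.fr hc hd hd' hsm
    have hW0 : W ≠ ⊥ := by
      rintro rfl
      rw [finrank_bot] at hd
      omega
    have : Fintype F := Fintype.ofFinite F
    refine hIH.use (S := N) (MulEquiv.refl N) (MW_le h.fr hc) (MW_ne h.fr hc hW0 hd') π hπ hS hSn ?_ hex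
    left
    refine ⟨F, inferInstance, inferInstance, finrank F W, hd, fun h2 => ?_, ⟨MulEquiv.refl _⟩⟩
    rw [← Nat.card_eq_fintype_card]
    exact hsm h2
  · exact Or.inr hex

/-- **The linear theorem**, from box CB. -/
theorem no_lin_of_prime (h : LinCov Ω N κ x r a) (hn : 3 ≤ finrank F V)
    (hne : ¬ (Nat.card F = 2 ∧ finrank F V = 4)) (hIH : IH (Nat.card N)) (hP : PrimeP F a) : False :=
  no_lin_of h hn hne hIH (sumP h hn hIH) hP

end lin

end Cfsg.Agent.H202.RC
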