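import Cfsg.Agent.H106.RC.Cover
import Cfsg.Agent.H202.RC.Orbit
import Cfsg.Agent.H359.RC.Crit

/-!
# Character rules for families

`T1` : a linear character of `Q` occurring at `ω` and fixed by no `x i` gives a point of `Q ω` fixed by no `x i`.
`T2` : if moreover `c ∈ Q` commutes with all `x i` and fixes every point fixed by no `x i`, then `μ c = 1`.
`no_radical` : contradiction for a cover normalising an elementary abelian `Q` with transitive action on the characters.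
-/

set_option autoImplicit false
open Cfsg

namespace Cfsg.Agent.H202.RC

open MulAction Cfsg.Agent.H106.RC Cfsg.Agent.H359.RC

section fam

variable {G Ω ι : Type*} [Group G] [Finite G] [MulAction G Ω] [Finite ι] {x : ι → G} {r : ι → ℕ}

omit [Finite G] [Finite ι] in
theorem pf_order (hx : PF x r) (i : ι) : orderOf (x i) = r i := by
  have := Fact.mk (hx.prime i)
  exact orderOf_eq_prime (hx.pow i) (hx.ne i)

/-- every nontrivial power of the generator has some `x i` among its powers -/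
theorem pf_pow (hx : PF x r) {g : G} (hg : g ∈ Subgroup.closure (Set.range x))
    (hxg : ∀ i, x i ∈ Subgroup.zpowers g) (k : ℕ) (hk : g ^ k ≠ 1) : ∃ (i : ι) (m : ℕ), (g ^ k) ^ m = x i := by
  classical
  cases nonempty_fintype ι
  -- `g ^ (∏ r) = 1`
  have hpow : g ^ (∏ i, r i) = 1 := by
    have h1 : ∀ z ∈ Subgroup.closure (Set.range x), z ^ (∏ i, r i) = 1 ∧ ∀ j, z * x j = x j * z := by
      intro z hz
      have hcomm : ∀ u ∈ Subgroup.closure (Set.range x), ∀ j, u * x j = x j * u := by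
        intro u hu j
        have : Subgroup.closure (Set.range x) ≤ Subgroup.centralizer {x j} := by
          rw [Subgroup.closure_le]
          rintro _ ⟨i, rfl⟩
          rw [SetLike.mem_coe, Subgroup.mem_centralizer_singleton_iff]
          exact hx.comm i j
        exact Subgroup.mem_centralizer_singleton_iff.1 (this hu)
      have hcomm2 : ∀ u ∈ Subgroup.closure (Set.range x), ∀ v ∈ Subgroup.closure (Set.range x), u * v = v * u := by
        intro u hu v hv
        have : Subgroup.closure (Set.range x) ≤ Subgroup.centralizer {u} := by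
          rw [Subgroup.closure_le]
          rintro _ ⟨i, rfl⟩
          rw [SetLike.mem_coe, Subgroup.mem_centralizer_singleton_iff]
          exact (hcomm u hu i).symm
        exact (Subgroup.mem_centralizer_singleton_iff.1 (this hv)).symm
      refine ⟨?_, hcomm z hz⟩
      induction hz using Subgroup.closure_induction with
      | mem y hy =>
        obtain ⟨i, rfl⟩ := hy
        obtain ⟨t, ht⟩ := Finset.dvd_prod_of_mem r (Finset.mem_univ i)
        rw [ht, pow_mul, hx.pow, one_pow]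
      | one => exact one_pow _
      | mul u v hu hv ihu ihv =>
        rw [(show Commute u v from hcomm2 u hu v hv).mul_pow, ihu, ihv, one_mul]
      | inv u _ ih => rw [inv_pow, ih, inv_one]
    exact (h1 g hg).1
  obtain ⟨s, hs, hd⟩ := Nat.exists_prime_and_dvd (n := orderOf (g ^ k)) (fun e => hk (orderOf_eq_one_iff.1 e))
  have hsg : s ∣ orderOf g := hd.trans (orderOf_pow_dvd k)
  have h2 : s ∣ ∏ i, r i := hsg.trans (orderOf_dvd_of_pow_eq_one hpow)
  obtain ⟨i, -, hi⟩ := (hs.prime.dvd_finsetProd_iff _).1 h2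
  have hsi : s = r i := (Nat.prime_dvd_prime_iff_eq hs (hx.prime i)).1 hi
  subst hsi
  obtain ⟨m, hm⟩ := exists_pow_eq_of_prime hs hd
  -- `x i` is a power of `g ^ (orderOf g / r i)`
  obtain ⟨l, hl⟩ : ∃ l : ℕ, g ^ l = x i := (isOfFinOrder_of_finite g).mem_powers_iff_mem_zpowers.2 (hxg i)
  have h3 : orderOf g ∣ l * r i := by
    apply orderOf_dvd_of_pow_eq_one
    rw [pow_mul, hl, hx.pow]
  obtain ⟨b, hb⟩ := hsg
  have hri : 0 < r i := (hx.prime i).pos
  have h4 : orderOf g / r i = b := by rw [hb]; exact Nat.mul_div_cancel_left b hri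
  have h5 : b ∣ l := by
    rw [hb, mul_comm l] at h3
    exact Nat.dvd_of_mul_dvd_mul_left hri h3
  obtain ⟨t, rfl⟩ := h5
  refine ⟨i, m * t, ?_⟩
  rw [pow_mul, hm, h4, ← pow_mul, hl]

theorem pf_reg (hx : PF x r) {g : G} (hg : g ∈ Subgroup.closure (Set.range x))
    (hxg : ∀ i, x i ∈ Subgroup.zpowers g) (ω : Ω) : ω ∈ Reg Ω g ↔ ∀ i, x i • ω ≠ ω := by
  constructor
  · intro h i hi
    obtain ⟨l, hl⟩ : ∃ l : ℕ, g ^ l = x i := (isOfFinOrder_of_finite g).mem_powers_iff_mem_zpowers.2 (hxg i)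
    have := h l (by rw [hl]; exact hi)
    exact hx.ne i (hl.symm.trans this)
  · intro h k hk
    by_contra hne
    obtain ⟨i, m, hm⟩ := pf_pow hx hg hxg k hne
    apply h i
    rw [← hm]
    clear hm
    induction m with
    | zero => simp
    | succ m ih => rw [pow_succ, mul_smul, hk, ih]

theorem pf_fixC (hx : PF x r) {g : G} (hg : g ∈ Subgroup.closure (Set.range x))
    (hxg : ∀ i, x i ∈ Subgroup.zpowers g) {Q : Subgroup G} (hQ : ∀ q ∈ Q, g * q * g⁻¹ ∈ Q) {μ : Q →* ℂˣ}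
    (hμ : ∀ i, ¬ FixC Q μ (x i)) (k : ℕ) (hk : FixC Q μ (g ^ k)) : g ^ k = 1 := by
  by_contra hne
  obtain ⟨i, m, hm⟩ := pf_pow hx hg hxg k hne
  apply hμ i
  rw [← hm]
  exact fixC_pow (pow_conj_mem' hQ k) hk m

omit [Finite ι] in
theorem gen_norm {Q : Subgroup G} (hQ : ∀ i, ∀ q ∈ Q, x i * q * (x i)⁻¹ ∈ Q) {g : G}
    (hg : g ∈ Subgroup.closure (Set.range x)) : ∀ q ∈ Q, g * q * g⁻¹ ∈ Q := by
  have h1 : Subgroup.closure (Set.range x) ≤ Subgroup.normalizer (Q : Set G) := by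
    rw [Subgroup.closure_le]
    rintro _ ⟨i, rfl⟩
    rw [SetLike.mem_coe, Subgroup.mem_normalizer_iff]
    intro q
    refine ⟨fun h => hQ i q h, fun h => ?_⟩
    have h2 := inv_conj_mem (hQ i) _ h
    have h3 : (x i)⁻¹ * (x i * q * (x i)⁻¹) * x i = q := by group
    rwa [h3] at h2
  intro q hq
  exact (Subgroup.mem_normalizer_iff.1 (h1 hg) q).1 hq

/-- **T1 for families.** -/
theorem T1 (hx : PF x r) {Q : Subgroup G} (hQ : ∀ i, ∀ q ∈ Q, x i * q * (x i)⁻¹ ∈ Q) (μ : Q →* ℂˣ) (ω : Ω)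
    (hω : ∀ q : Q, (q : G) • ω = ω → μ q = 1) (hμ : ∀ i, ¬ FixC Q μ (x i)) :
    ∃ q ∈ Q, ∀ i, x i • q • ω ≠ q • ω := by
  obtain ⟨g, hg, hxg⟩ := exists_gen x r hx.prime hx.inj hx.pow hx.comm
  obtain ⟨q, hq⟩ := exists_regular (gen_norm hQ hg) μ ω hω (pf_fixC hx hg hxg (gen_norm hQ hg) hμ)
  exact ⟨q, q.2, (pf_reg hx hg hxg _).1 hq⟩

/-- **T2 for families.** -/
theorem T2 (hx : PF x r) {Q : Subgroup G} (hQ : ∀ i, ∀ q ∈ Q, x i * q * (x i)⁻¹ ∈ Q) (μ : Q →* ℂˣ) (ω : Ω)
    (hω : ∀ q : Q, (q : G) • ω = ω → μ q = 1) (hμ : ∀ i, ¬ FixC Q μ (x i)) (c : Q)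
    (hc : ∀ i, (c : G) * x i = x i * c) (hfix : ∀ ω : Ω, (∀ i, x i • ω ≠ ω) → (c : G) • ω = ω) : μ c = 1 := by
  obtain ⟨g, hg, hxg⟩ := exists_gen x r hx.prime hx.inj hx.pow hx.comm
  refine eq_one_of_fix (gen_norm hQ hg) μ ω hω (pf_fixC hx hg hxg (gen_norm hQ hg) hμ) c ?_
    fun ω hω => hfix ω ((pf_reg hx hg hxg ω).1 hω)
  have h1 : Subgroup.closure (Set.range x) ≤ Subgroup.centralizer {(c : G)} := by
    rw [Subgroup.closure_le]
    rintro _ ⟨i, rfl⟩
    rw [SetLike.mem_coe, Subgroup.mem_centralizer_singleton_iff]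
    exact (hc i).symm
  exact (Subgroup.mem_centralizer_singleton_iff.1 (h1 hg)).symm

/-! ### characters of abelian `Q` moved by all `x i` -/

/-- conjugation action on the characters of `Q` -/
noncomputable def chC {Q : Subgroup G} (g : G) (h : ∀ q ∈ Q, g⁻¹ * q * g ∈ Q) (h' : ∀ q ∈ Q, g * q * g⁻¹ ∈ Q) :
    MulAut (Q →* ℂˣ) where
  toFun μ := conjC Q μ g h
  invFun μ := conjC Q μ g⁻¹ (by simpa using h')
  left_inv μ := by
    ext q
    change ((μ ⟨g⁻¹ * (g⁻¹⁻¹ * (q : G) * g⁻¹) * g, _⟩ : ℂˣ) : ℂ) = _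
    congr 2
    apply Subtype.ext
    change g⁻¹ * (g⁻¹⁻¹ * (q : G) * g⁻¹) * g = q
    group
  right_inv μ := by
    ext q
    change ((μ ⟨g⁻¹⁻¹ * (g⁻¹ * (q : G) * g) * g⁻¹, _⟩ : ℂˣ) : ℂ) = _
    congr 2
    apply Subtype.ext
    change g⁻¹⁻¹ * (g⁻¹ * (q : G) * g) * g⁻¹ = q
    group
  map_mul' μ ν := by ext q; rfl

omit [Finite G] in
theorem chC_apply {Q : Subgroup G} (g : G) (h : ∀ q ∈ Q, g⁻¹ * q * g ∈ Q) (h' : ∀ q ∈ Q, g * q * g⁻¹ ∈ Q)
    (μ : Q →* ℂˣ) (q : Q) : chC g h h' μ q = μ ⟨g⁻¹ * q * g, h _ q.2⟩ := rfl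

omit [Finite G] in
theorem chC_fix {Q : Subgroup G} (g : G) (h : ∀ q ∈ Q, g⁻¹ * q * g ∈ Q) (h' : ∀ q ∈ Q, g * q * g⁻¹ ∈ Q)
    (μ : Q →* ℂˣ) : chC g h h' μ = μ ↔ FixC Q μ g := by
  constructor
  · intro e q q' hq
    have h1 := DFunLike.congr_fun e q'
    rw [chC_apply] at h1
    rw [← h1]
    congr 1
    apply Subtype.ext
    change g⁻¹ * (q' : G) * g = q
    rw [hq]; group
  · intro e
    ext q
    rw [chC_apply]
    rw [e ⟨g⁻¹ * q * g, h _ q.2⟩ q (by group)]

omit [Finite G] in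
theorem chC_pow {Q : Subgroup G} (g : G) (h : ∀ q ∈ Q, g⁻¹ * q * g ∈ Q) (h' : ∀ q ∈ Q, g * q * g⁻¹ ∈ Q)
    {n : ℕ} (hn : g ^ n = 1) : chC g h h' ^ n = 1 := by
  have key : ∀ k : ℕ, ∀ (μ : Q →* ℂˣ) (q q' : Q), (q' : G) = (g ^ k)⁻¹ * q * g ^ k → (chC g h h' ^ k) μ q = μ q' := by
    intro k
    induction k with
    | zero =>
      intro μ q q' e
      have : q' = q := Subtype.ext (by simpa using e)
      rw [this]; rfl
    | succ k ih =>
      intro μ q q' e
      rw [pow_succ, MulAut.mul_apply]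
      have hk : (g ^ k)⁻¹ * (q : G) * g ^ k ∈ Q := pow_conj_mem h k q q.2
      rw [ih _ q ⟨_, hk⟩ rfl, chC_apply]
      congr 1
      apply Subtype.ext
      rw [e, pow_succ]
      simp only [mul_inv_rev, mul_assoc]
  ext μ q
  rw [key n μ q q (by rw [hn]; simp)]
  rfl

/-- **Existence of a character moved by all `x i`** with prescribed value at `c` -/
theorem exists_char (hx : PF x r) {p : ℕ} (hp : p.Prime) {Q : Subgroup G} (hQc : ∀ q ∈ Q, ∀ q' ∈ Q, q * q' = q' * q)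
    (hQp : ∀ q ∈ Q, q ^ p = 1) (hQ : ∀ i, ∀ q ∈ Q, x i * q * (x i)⁻¹ ∈ Q) (c : Q)
    (hc : ∀ i, (c : G) * x i = x i * c) (hrc : ∀ i, r i ≠ p ∨ c = 1)
    (hne : ∀ i, ∃ q ∈ Q, x i * q ≠ q * x i) (ν₀ : Q →* ℂˣ) :
    ∃ ν : Q →* ℂˣ, ν c = ν₀ c ∧ ∀ i, ¬ FixC Q ν (x i) := by
  classical
  have := Fact.mk hp
  have hQ' : ∀ i, ∀ q ∈ Q, (x i)⁻¹ * q * x i ∈ Q := fun i => inv_conj_mem (hQ i)
  let cg : CommGroup Q := { (inferInstance : Group Q) with
    mul_comm := fun a b => Subtype.ext (hQc a a.2 b b.2) }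
  obtain ⟨eA⟩ := CommGroup.monoidHom_mulEquiv_of_hasEnoughRootsOfUnity Q ℂ
  have hfin : Finite (Q →* ℂˣ) := Finite.of_equiv _ eA.symm.toEquiv
  have hcard : Nat.card (Q →* ℂˣ) = Nat.card Q := Nat.card_congr eA.toEquiv
  have hpg : IsPGroup p Q := fun q => ⟨1, by rw [pow_one]; exact Subtype.ext (hQp q q.2)⟩
  obtain ⟨n, hn⟩ := IsPGroup.iff_card.1 hpg
  -- the acting group and the points
  let U : Subgroup (Q →* ℂˣ) :=
    { carrier := {ν | ν c = 1}
      one_mem' := rfl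
      mul_mem' := by
        intro a b ha hb
        change (a * b) c = 1
        rw [MonoidHom.mul_apply, show a c = 1 from ha, show b c = 1 from hb, one_mul]
      inv_mem' := by
        intro a ha
        change (a⁻¹) c = 1
        rw [MonoidHom.inv_apply, show a c = 1 from ha, inv_one] }
  have hU : ∀ ν : Q →* ℂˣ, ν ∈ U ↔ ν c = 1 := fun ν => Iff.rfl
  let D := {ν : Q →* ℂˣ // ν c = ν₀ c}
  let act : MulAction U D :=
    { smul := fun u d => ⟨u.1 * d.1, by rw [MonoidHom.mul_apply, (hU _).1 u.2, one_mul, d.2]⟩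
      one_smul := fun d => Subtype.ext (one_mul _)
      mul_smul := fun u v d => Subtype.ext (mul_assoc _ _ _) }
  have hact : ∀ (u : U) (d : D), ((u • d : D) : Q →* ℂˣ) = u.1 * d.1 := fun _ _ => rfl
  have hD : Nonempty D := ⟨⟨ν₀, rfl⟩⟩
  have hcc : ∀ i, (⟨(x i)⁻¹ * c * x i, hQ' i _ c.2⟩ : Q) = c := fun i => Subtype.ext (by
    change (x i)⁻¹ * (c : G) * x i = c
    rw [mul_assoc, hc i, inv_mul_cancel_left])
  let β : ι → MulAut (Q →* ℂˣ) := fun i => chC (x i) (hQ' i) (hQ i)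
  have hβc : ∀ i (ν : Q →* ℂˣ), β i ν c = ν c := fun i ν => by
    change ν ⟨(x i)⁻¹ * c * x i, _⟩ = ν c
    rw [hcc i]
  have hβs : ∀ i (ν : Q →* ℂˣ), (β i).symm ν c = ν c := fun i ν => by
    conv_rhs => rw [← (β i).apply_symm_apply ν]
    rw [hβc]
  let y : ι → Equiv.Perm D := fun i =>
    { toFun := fun d => ⟨β i d.1, by rw [hβc, d.2]⟩
      invFun := fun d => ⟨(β i).symm d.1, by rw [hβs, d.2]⟩
      left_inv := fun d => Subtype.ext ((β i).symm_apply_apply _)
      right_inv := fun d => Subtype.ext ((β i).apply_symm_apply _) }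
  have hy : ∀ i d, ((y i d : D) : Q →* ℂˣ) = β i d.1 := fun _ _ => rfl
  let α : ι → MulAut U := fun i =>
    { toFun := fun u => ⟨β i u.1, by rw [hU, hβc]; exact u.2⟩
      invFun := fun u => ⟨(β i).symm u.1, by rw [hU, hβs]; exact u.2⟩
      left_inv := fun u => Subtype.ext ((β i).symm_apply_apply _)
      right_inv := fun u => Subtype.ext ((β i).apply_symm_apply _)
      map_mul' := fun u v => Subtype.ext (map_mul (β i) _ _) }
  have hα : ∀ i u, ((α i u : U) : Q →* ℂˣ) = β i u.1 := fun _ _ => rfl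
  have hβcomm : ∀ i j ν, β i (β j ν) = β j (β i ν) := by
    intro i j ν
    ext q
    change ((ν ⟨(x j)⁻¹ * ((x i)⁻¹ * q * x i) * x j, _⟩ : ℂˣ) : ℂ) = ((ν ⟨(x i)⁻¹ * ((x j)⁻¹ * q * x j) * x i, _⟩ : ℂˣ) : ℂ)
    congr 2
    apply Subtype.ext
    change (x j)⁻¹ * ((x i)⁻¹ * (q : G) * x i) * x j = (x i)⁻¹ * ((x j)⁻¹ * (q : G) * x j) * x i
    have h1 : (x j)⁻¹ * ((x i)⁻¹ * (q : G) * x i) * x j = (x i * x j)⁻¹ * q * (x i * x j) := by group
    rw [h1, hx.comm i j]
    group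
  have hypow : ∀ i (m : ℕ) (d : D), (((y i ^ m) d : D) : Q →* ℂˣ) = (β i ^ m) d.1 := by
    intro i m
    induction m with
    | zero => intro d; rfl
    | succ m ih => intro d; rw [pow_succ, Equiv.Perm.mul_apply, ih, hy, pow_succ, MulAut.mul_apply]
  have hαpow : ∀ i (m : ℕ) (u : U), (((α i ^ m) u : U) : Q →* ℂˣ) = (β i ^ m) u.1 := by
    intro i m
    induction m with
    | zero => intro u; rfl
    | succ m ih => intro u; rw [pow_succ, MulAut.mul_apply, ih, hα, pow_succ, MulAut.mul_apply]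
  have hβpow : ∀ i, β i ^ r i = 1 := fun i => chC_pow _ _ _ (hx.pow i)
  have hN : Nrm y α r := by
    refine ⟨hx.prime, ?_, ?_, ?_, ?_, ?_⟩
    · intro i j d
      apply Subtype.ext
      rw [hy, hy, hy, hy, hβcomm]
    · intro i j u
      apply Subtype.ext
      rw [hα, hα, hα, hα, hβcomm]
    · intro i u d
      apply Subtype.ext
      rw [hy, hact, hact, hα, hy, map_mul]
    · intro i
      ext d
      rw [hypow, hβpow]
      rfl
    · intro i
      ext u
      rw [hαpow, hβpow]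
      rfl
  have htr : ∀ d d' : D, ∃ u : U, u • d = d' := by
    intro d d'
    refine ⟨⟨d'.1 * (d.1)⁻¹, ?_⟩, ?_⟩
    · rw [hU, MonoidHom.mul_apply, MonoidHom.inv_apply, d.2, d'.2, mul_inv_cancel]
    · apply Subtype.ext
      rw [hact]
      exact inv_mul_cancel_right (d'.1 : Q →* ℂˣ) d.1
  have hUcard : ∀ i, ¬ (r i).Coprime (Nat.card U) → r i = p := by
    intro i hi
    by_contra hne
    apply hi
    have h1 : Nat.card U ∣ p ^ n := by
      rw [← hn, ← hcard]
      exact Subgroup.card_subgroup_dvd_card U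
    exact Nat.Coprime.coprime_dvd_right h1 (Nat.Coprime.pow_right _ ((Nat.coprime_primes (hx.prime i) hp).2 hne))
  -- duality
  have hdual : ∀ z : Q, (∀ ν : Q →* ℂˣ, ν c = 1 → ν z = 1) → z ∈ Subgroup.zpowers c := by
    intro z hz
    by_contra hzc
    have h1 : (QuotientGroup.mk z : Q ⧸ Subgroup.zpowers c) ≠ 1 := by
      rw [Ne, QuotientGroup.eq_one_iff]; exact hzc
    obtain ⟨φ, hφ⟩ := CommGroup.exists_apply_ne_one_of_hasEnoughRootsOfUnity (Q ⧸ Subgroup.zpowers c) ℂ h1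
    apply hφ
    refine hz (φ.comp (QuotientGroup.mk' _)) ?_
    change φ (QuotientGroup.mk c) = 1
    rw [(QuotientGroup.eq_one_iff c).2 (Subgroup.mem_zpowers c), map_one]
  have hmv : ∀ i, ∃ d, y i d ≠ d := by
    intro i
    by_contra hcon
    push Not at hcon
    obtain ⟨q, hq, hqx⟩ := hne i
    -- all of `U` is fixed
    have h1 : ∀ ν ∈ U, β i ν = ν := by
      intro ν hν
      have h2 := congrArg Subtype.val (hcon ⟨ν₀, rfl⟩)
      have h3 := congrArg Subtype.val (hcon ⟨ν * ν₀, by rw [MonoidHom.mul_apply, (hU _).1 hν, one_mul]⟩)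
      rw [hy] at h2 h3
      rw [map_mul, h2] at h3
      exact mul_right_cancel h3
    set z : Q := ⟨q, hq⟩⁻¹ * ⟨(x i)⁻¹ * q * x i, hQ' i _ hq⟩ with hz
    have hzG : (z : G) = q⁻¹ * ((x i)⁻¹ * q * x i) := rfl
    have h2 : z ∈ Subgroup.zpowers c := by
      apply hdual
      intro ν hν
      have h3 := DFunLike.congr_fun (h1 ν hν) ⟨q, hq⟩
      change ν ⟨(x i)⁻¹ * q * x i, _⟩ = ν ⟨q, hq⟩ at h3
      rw [hz, map_mul, map_inv, h3, inv_mul_cancel]
    have hz1 : (z : G) = 1 := by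
      rcases hrc i with hri | hc1
      · have hzx : (x i)⁻¹ * (z : G) * x i = z := by
          obtain ⟨m, hm⟩ := Subgroup.mem_zpowers_iff.1 h2
          have h4 : (z : G) = (c : G) ^ m := by rw [← hm]; rfl
          have h5 : Commute ((c : G) ^ m) (x i) := (show Commute (c : G) (x i) from hc i).zpow_left m
          rw [h4, mul_assoc, h5.eq, inv_mul_cancel_left]
        have key : ∀ m : ℕ, ((x i) ^ m)⁻¹ * q * (x i) ^ m = q * (z : G) ^ m := by
          intro m
          induction m with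
          | zero => simp
          | succ m ih =>
            have h6 : ((x i) ^ (m + 1))⁻¹ * q * (x i) ^ (m + 1) = (x i)⁻¹ * (((x i) ^ m)⁻¹ * q * (x i) ^ m) * x i := by
              rw [pow_succ]; group
            rw [h6, ih]
            have h7 : (x i)⁻¹ * (q * (z : G) ^ m) * x i = ((x i)⁻¹ * q * x i) * ((x i)⁻¹ * z * x i) ^ m := by
              have : ((x i)⁻¹ * z * x i) ^ m = (x i)⁻¹ * (z : G) ^ m * x i := by
                have := conj_pow (i := m) (a := (x i)⁻¹) (b := (z : G))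
                rw [inv_inv] at this
                exact this
              rw [this]; group
            have h8 : (x i)⁻¹ * q * x i = q * z := by rw [hzG]; group
            rw [h7, hzx, h8, pow_succ', mul_assoc]
        have h9 := key (r i)
        rw [hx.pow, inv_one, one_mul, mul_one] at h9
        have h10 : (z : G) ^ r i = 1 := by
          have := h9.symm
          exact mul_eq_left.1 this
        have h11 : (z : G) ^ p = 1 := hQp _ z.2
        have h12 := Nat.dvd_gcd (orderOf_dvd_of_pow_eq_one h10) (orderOf_dvd_of_pow_eq_one h11)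
        rw [(Nat.coprime_primes (hx.prime i) hp).2 hri, Nat.dvd_one] at h12
        exact orderOf_eq_one_iff.1 h12
      · obtain ⟨m, hm⟩ := Subgroup.mem_zpowers_iff.1 h2
        rw [hc1, one_zpow] at hm
        rw [← hm]; rfl
    apply hqx
    rw [hzG] at hz1
    have h13 : (x i)⁻¹ * q * x i = q := by
      have := inv_mul_eq_one.1 hz1
      exact this.symm
    calc x i * q = x i * ((x i)⁻¹ * q * x i) := by rw [h13]
      _ = q * x i := by group
  obtain ⟨d, hd⟩ := exists_moved hN htr (fun i j hi hj => hx.inj ((hUcard i hi).trans (hUcard j hj).symm)) hmv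
  refine ⟨d.1, d.2, fun i hfix => ?_⟩
  apply hd i
  apply Subtype.ext
  rw [hy]
  exact (chC_fix _ _ _ _).2 hfix

end fam

/-- **Radical rule.** No cover normalises an elementary abelian `Q` which contains its centraliser in the family and
on whose nontrivial characters the normaliser is transitive. -/
theorem no_radical {G Ω ι : Type*} [Group G] [Finite G] [MulAction G Ω] [Nonempty Ω] [Finite ι] {N : Subgroup G}
    (hE : Env G Ω N) {x : ι → G} {r : ι → ℕ} (hx : PF x r) (hcov : Cov Ω x) {p : ℕ} (hp : p.Prime) {Q : Subgroup G}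
    (hQc : ∀ q ∈ Q, ∀ q' ∈ Q, q * q' = q' * q) (hQp : ∀ q ∈ Q, q ^ p = 1) (hQ1 : Q ≠ ⊥)
    (hQ : ∀ i, ∀ q ∈ Q, x i * q * (x i)⁻¹ ∈ Q) (hcent : ∀ i, (∀ q ∈ Q, x i * q = q * x i) → x i ∈ Q)
    (htrans : ∀ μ ν : Q →* ℂˣ, μ ≠ 1 → ν ≠ 1 → ∃ (n : G) (hn : ∀ q ∈ Q, n⁻¹ * q * n ∈ Q), conjC Q μ n hn = ν) :
    False := by
  classical
  have := Fact.mk hp
  obtain ⟨⟨q₀, hq₀⟩, hq₁⟩ := Subgroup.ne_bot_iff_exists_ne_one.1 hQ1
  have hq₂ : q₀ ≠ 1 := fun h => hq₁ (Subtype.ext h)
  obtain ⟨ω, hω⟩ := hE.exists_move hq₂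
  have hpg : IsPGroup p Q := fun q => ⟨1, by rw [pow_one]; exact Subtype.ext (hQp q q.2)⟩
  obtain ⟨μ, hμ1, -, hμω⟩ := exists_occ hpg ⟨q₀, hq₀, hω⟩
  have hι : Nonempty ι := by
    obtain ⟨i, -⟩ := hcov ω
    exact ⟨i⟩
  by_cases hin : ∃ i, x i ∈ Q
  · -- one of the `x i` is in `Q`
    obtain ⟨i₀, hi₀⟩ := hin
    have hri : r i₀ = p := by
      have h1 := orderOf_dvd_of_pow_eq_one (hQp _ hi₀)
      rw [pf_order hx] at h1
      exact (Nat.prime_dvd_prime_iff_eq (hx.prime i₀) hp).1 h1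
    have hout : ∀ j, j ≠ i₀ → x j ∉ Q := by
      intro j hj hjQ
      have h1 := orderOf_dvd_of_pow_eq_one (hQp _ hjQ)
      rw [pf_order hx] at h1
      exact hj (hx.inj (((Nat.prime_dvd_prime_iff_eq (hx.prime j) hp).1 h1).trans hri.symm))
    let κ := {j : ι // j ≠ i₀}
    let y : κ → G := fun j => x j.1
    have hy : PF y (fun j : κ => r j.1) :=
      ⟨fun j => hx.prime _, fun a b h => Subtype.ext (hx.inj h), fun j => hx.pow _, fun j => hx.ne _,
        fun a b => hx.comm _ _⟩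
    let c : Q := ⟨x i₀, hi₀⟩
    -- a character nontrivial on `c`
    let cg : CommGroup Q := { (inferInstance : Group Q) with
      mul_comm := fun a b => Subtype.ext (hQc a a.2 b b.2) }
    have hc1 : c ≠ 1 := fun h => hx.ne i₀ (congrArg Subtype.val h)
    obtain ⟨ν₀, hν₀⟩ := CommGroup.exists_apply_ne_one_of_hasEnoughRootsOfUnity Q ℂ hc1
    obtain ⟨ν, hνc, hν⟩ := exists_char hy hp hQc hQp (fun j => hQ _) c (fun j => hx.comm _ _)
      (fun j => Or.inl fun h => j.2 (hx.inj (h.trans hri.symm)))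
      (fun j => by
        by_contra hno
        push Not at hno
        exact hout j.1 j.2 (hcent _ hno)) ν₀
    have hν1 : ν ≠ 1 := by
      rintro rfl
      exact hν₀ hνc.symm
    obtain ⟨n, hn, e⟩ := htrans μ ν hμ1 hν1
    obtain ⟨ω', hω'⟩ := occ_conjC ⟨ω, hμω⟩ n hn
    rw [e] at hω'
    have h2 := T2 hy (fun j => hQ _) ν ω' hω' hν c (fun j => hx.comm _ _) (fun ω h => by
      obtain ⟨k, hk⟩ := hcov ω
      by_cases hki : k = i₀
      · rw [hki] at hk; exact hk
      · exact (h ⟨k, hki⟩ hk).elim)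
    exact hν₀ (hνc.symm.trans h2)
  · push Not at hin
    obtain ⟨ν, -, hν⟩ := exists_char hx hp hQc hQp hQ 1 (fun i => by simp) (fun i => Or.inr rfl)
      (fun j => by
        by_contra hno
        push Not at hno
        exact hin j (hcent _ hno)) 1
    have hν1 : ν ≠ 1 := by
      rintro rfl
      exact hν (Classical.arbitrary ι) (fun q q' _ => by rfl)
    obtain ⟨n, hn, e⟩ := htrans μ ν hμ1 hν1
    obtain ⟨ω', hω'⟩ := occ_conjC ⟨ω, hμω⟩ n hn
    rw [e] at hω'
    obtain ⟨q, -, hq⟩ := T1 hx hQ ν ω' hω' hν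
    obtain ⟨i, hi⟩ := hcov (q • ω')
    exact hq i hi

end Cfsg.Agent.H202.RC
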